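/-
Abelian subgroups with a large cyclic subgroup of index `p` are not essential; invariant series.
-/
import Mathlib
import Cfsg.Agent.Lib.Fusion.EssentialShape

set_option autoImplicit false
set_option linter.unusedSectionVars false

namespace Cfsg.Agent.Fusion.RankTwoResistant

open Subgroup Cfsg.Agent.Fusion

variable {Ω : Type*} [Group Ω] {S : Subgroup Ω} [Finite S] {F : Cfsg.FusionSystem S} {p : ℕ}
  [hp : Fact p.Prime] {E : Subgroup Ω}

/-- An essential subgroup has no series with small steps invariant under its automorphism group. -/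
theorem no_series_aut (hE : F.IsEssential p E) (hS : IsPGroup p S) (C : ℕ → Subgroup E) (n : ℕ)
    (h0 : C 0 = ⊥) (hn : C n = ⊤) (hmono : ∀ i < n, C i ≤ C (i + 1))
    (hinv : ∀ i ≤ n, ∀ a ∈ F.autGroup E, ∀ x ∈ C i, (a : MulAut E) x ∈ C i)
    (hstep : ∀ i < n, (C i).relIndex (C (i + 1)) ≤ p) : False := by
  haveI : Finite E := Fusion.Saturation.finite_of_le hE.1.1
  obtain ⟨α, k, hk, hout⟩ := EssentialShape.exists_outer hE
  exact hout (EssentialShape.mem_inn_of_mem_pCore hE hS
    (EssentialShape.mem_pCore_of_series (hS.to_le hE.1.1) _ C n h0 hn hmono hinv hstep hk))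

theorem abelian_not_essential (hS : IsPGroup p S) (hab : ∀ a ∈ E, ∀ b ∈ E, a * b = b * a)
    {g : Ω} (hg : g ∈ E) (hg2 : p ^ 2 ∣ orderOf g) (hcard : Nat.card E ≤ orderOf g * p) :
    ¬ F.IsEssential p E := by
  intro hE
  haveI : Finite E := Fusion.Saturation.finite_of_le hE.1.1
  letI : CommGroup E :=
    { (inferInstance : Group E) with mul_comm := fun a b => Subtype.ext (hab a a.2 b b.2) }
  have hEp : IsPGroup p E := hS.to_le hE.1.1
  set g' : E := ⟨g, hg⟩ with hg'
  have ho : orderOf g' = orderOf g := (Subgroup.orderOf_coe g').symm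
  have hpos : 0 < orderOf g' := orderOf_pos g'
  have hnt : Nontrivial E := by
    refine ⟨g', 1, fun h => ?_⟩
    rw [← ho, h, orderOf_one] at hg2
    have := Nat.le_of_dvd one_pos hg2
    have := Nat.one_lt_pow two_ne_zero hp.out.one_lt
    omega
  -- the image of the power map is large
  have himg : orderOf g' ≤ Nat.card (EssentialShape.powImage E p 1) * p := by
    have h1 : zpowers (g' ^ p) ≤ EssentialShape.powImage E p 1 :=
      zpowers_le.2 ⟨g', by simp⟩
    have h2 : orderOf g' ≤ orderOf (g' ^ p) * p := by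
      refine Nat.le_of_dvd (Nat.mul_pos (orderOf_pos _) hp.out.pos) (orderOf_dvd_of_pow_eq_one ?_)
      rw [mul_comm, pow_mul, pow_orderOf_eq_one]
    rw [← Nat.card_zpowers (g' ^ p)] at h2
    exact h2.trans (Nat.mul_le_mul_right _ (Subgroup.card_le_of_le h1))
  have hrk : (EssentialShape.powImage E p 1).index ≤ p ^ 2 := by
    refine Nat.le_of_mul_le_mul_left ?_ (Nat.card_pos (α := EssentialShape.powImage E p 1))
    rw [Subgroup.card_mul_index, sq, ← mul_assoc]
    exact hcard.trans (Nat.mul_le_mul_right _ (ho ▸ himg))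
  rcases EssentialShape.exists_series_or_homocyclic hEp hrk with
    ⟨C, n, h0, hn, hmono, hinv, hstep⟩ | ⟨b, hexp, hker, hidx⟩
  · exact EssentialShape.no_series hE hS C n h0 hn hmono hinv hstep
  · obtain ⟨e⟩ := EssentialShape.homocyclic_equiv hEp hexp hker hidx
    have hc : Nat.card E = p ^ (b + 1) * p ^ (b + 1) := by
      rw [Nat.card_congr e.toEquiv, Nat.card_congr Multiplicative.toAdd, Nat.card_prod, Nat.card_zmod]
    have hob : orderOf g ∣ p ^ (b + 1) := ho ▸ orderOf_dvd_of_pow_eq_one (hexp g')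
    have h1 : p ^ (b + 1) * p ^ (b + 1) ≤ p ^ (b + 1) * p ^ 1 := by
      rw [← hc, pow_one]
      exact hcard.trans (Nat.mul_le_mul_right _ (Nat.le_of_dvd (pow_pos hp.out.pos _) hob))
    have hb : b + 1 ≤ 1 := (Nat.pow_le_pow_iff_right hp.out.one_lt).1
      (Nat.le_of_mul_le_mul_left h1 (pow_pos hp.out.pos _))
    have h2 := (Nat.pow_dvd_pow_iff_le_right hp.out.one_lt).1 (hg2.trans hob)
    omega

end Cfsg.Agent.Fusion.RankTwoResistant
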