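/-
A transvection and a moved line generate a torus element acting by 2 and 1/2.
-/
import Mathlib

set_option autoImplicit false

namespace Cfsg.Agent.Fusion.RankTwoResistant

open Subgroup

theorem zpow_eq_of_dvd {G : Type*} [Group G] {p : ℕ} {g : G} (hg : g ^ p = 1) {i j : ℤ}
    (h : (p : ℤ) ∣ i - j) : g ^ i = g ^ j := by
  obtain ⟨c, hc⟩ := h
  rw [show i = j + (p : ℤ) * c by linarith, zpow_add, zpow_mul, zpow_natCast, hg, one_zpow, mul_one]

theorem dvd_of_zpow_eq {G : Type*} [Group G] {p : ℕ} [Fact p.Prime] {g : G} (hg : g ^ p = 1)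
    (hg1 : g ≠ 1) {i j : ℤ} (h : g ^ i = g ^ j) : (p : ℤ) ∣ i - j := by
  have h1 : g ^ (i - j) = 1 := by rw [zpow_sub, h, mul_inv_cancel]
  have := orderOf_dvd_iff_zpow_eq_one.2 h1
  rwa [orderOf_eq_prime hg hg1] at this

theorem exists_inverse {p : ℕ} [Fact p.Prime] {r : ℤ} (hr : ¬ (p : ℤ) ∣ r) :
    ∃ s : ℤ, (p : ℤ) ∣ r * s - 1 := by
  obtain ⟨a, b, h⟩ := ((Nat.prime_iff_prime_int.1 Fact.out).coprime_iff_not_dvd).2 hr
  exact ⟨b, -a, by linear_combination h⟩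

variable {Q : Type*} [CommGroup Q]

/-- Powers of a transvection. -/
theorem transvection_zpow {σ : MulAut Q} {y w : Q} {r : ℤ}
    (hy : σ y = y) (hw : σ w = w * y ^ r) (i a b : ℤ) :
    (σ ^ i) (w ^ a * y ^ b) = w ^ a * y ^ (b + r * i * a) := by
  have e1 : σ⁻¹ y = y := σ.injective (by rw [MulAut.apply_inv_self, hy])
  have e2 : σ⁻¹ w = w * y ^ (-r) := σ.injective (by
    rw [MulAut.apply_inv_self, map_mul, map_zpow, hy, hw, mul_assoc, ← zpow_add, add_neg_cancel,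
      zpow_zero, mul_one])
  have key : ∀ i : ℤ, (σ ^ i) y = y ∧ (σ ^ i) w = w * y ^ (r * i) := by
    intro i
    induction i with
    | zero => simp
    | succ i ih =>
      rw [zpow_add, zpow_one, MulAut.mul_apply, MulAut.mul_apply, hy, hw, map_mul, map_zpow, ih.1,
        ih.2, mul_assoc, ← zpow_add]
      exact ⟨rfl, by ring_nf⟩
    | pred i ih =>
      rw [show -(i : ℤ) - 1 = -(i : ℤ) + -1 by ring, zpow_add, zpow_neg_one, MulAut.mul_apply,
        MulAut.mul_apply, e1, e2, map_mul, map_zpow, ih.1, ih.2, mul_assoc, ← zpow_add]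
      exact ⟨rfl, by ring_nf⟩
  rw [map_mul, map_zpow, map_zpow, (key i).1, (key i).2, mul_zpow, mul_assoc, ← zpow_mul, ← zpow_add,
    add_comm b]

/-- The torus element. -/
theorem exists_torus {A : Type*} [Group A] (ρ : A →* MulAut Q) {p : ℕ} [hp : Fact p.Prime]
    (hp2 : p ≠ 2) (hexp : ∀ q : Q, q ^ p = 1) {y : Q} (hy1 : y ≠ 1)
    (hgen : ∀ w : Q, w ∉ zpowers y → ∀ q : Q, ∃ a b : ℤ, q = w ^ a * y ^ b)
    {u : A} (huy : ρ u y = y) (hu : ∀ q, ρ u q / q ∈ zpowers y)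
    (hu1 : ∀ q, q ∉ zpowers y → ρ u q ≠ q) {α : A} (hα : ρ α y ∉ zpowers y) :
    ∃ (T : A) (w : Q) (h : ℤ), w ∉ zpowers y ∧ ρ T y = y ^ (2 : ℤ) ∧ ρ T w = w ^ h ∧
      (p : ℤ) ∣ 2 * h - 1 := by
  set w := ρ α y with hw
  obtain ⟨r, hr⟩ := mem_zpowers_iff.1 (hu w)
  have hr' : ρ u w = w * y ^ r := by rw [hr]; exact (mul_div_cancel _ _).symm
  have hr0 : ¬ (p : ℤ) ∣ r := fun h => hu1 w hα (by
    rw [hr', zpow_eq_of_dvd (hexp y) (j := 0) (by simpa using h), zpow_zero, mul_one])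
  obtain ⟨r', hr''⟩ := exists_inverse hr0
  -- the transvection fixing `y`
  have eU : ∀ i a b : ℤ, ρ (u ^ (r' * i)) (w ^ a * y ^ b) = w ^ a * y ^ (b + i * a) := fun i a b => by
    rw [map_zpow, transvection_zpow huy hr']
    congr 1
    refine zpow_eq_of_dvd (hexp y) ?_
    rw [show b + r * (r' * i) * a - (b + i * a) = (r * r' - 1) * (i * a) by ring]
    exact dvd_mul_of_dvd_left hr'' _
  -- the transvection fixing `w`
  obtain ⟨a, b, hab⟩ := hgen w hα ((ρ α).symm y)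
  have hv1 : ρ (α * u ^ r' * α⁻¹) w = w := by
    have h1 := eU 1 0 1
    rw [mul_one, zpow_zero, one_mul, mul_zero, add_zero, zpow_one] at h1
    rw [map_mul, map_mul, map_inv, MulAut.mul_apply, MulAut.mul_apply, hw, MulAut.inv_apply_self, h1, one_mul]
  have hv2 : ρ (α * u ^ r' * α⁻¹) y = y * w ^ a := by
    have h1 := eU 1 a b
    rw [mul_one, one_mul] at h1
    rw [map_mul, map_mul, map_inv, MulAut.mul_apply, MulAut.mul_apply, MulAut.inv_apply, hab, h1,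
      zpow_add, ← mul_assoc, ← hab, map_mul, map_zpow, MulEquiv.apply_symm_apply, ← hw]
  have ha0 : ¬ (p : ℤ) ∣ a := fun h => by
    have h1 : (ρ α).symm y = y ^ b := by
      rw [hab, zpow_eq_of_dvd (hexp w) (j := 0) (by simpa using h), zpow_zero, one_mul]
    have h2 := congrArg (ρ α) h1
    rw [MulEquiv.apply_symm_apply, map_zpow, ← hw] at h2
    apply hα
    have hb0 : ¬ (p : ℤ) ∣ b := fun hb => hy1 (by
      rw [h2, zpow_eq_of_dvd (hexp w) (j := 0) (by simpa using hb), zpow_zero])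
    obtain ⟨b', hb'⟩ := exists_inverse hb0
    refine mem_zpowers_iff.2 ⟨b', ?_⟩
    rw [h2, ← zpow_mul, zpow_eq_of_dvd (hexp w) (j := 1) hb', zpow_one]
  obtain ⟨a', ha'⟩ := exists_inverse ha0
  have eV : ∀ i c d : ℤ, ρ ((α * u ^ r' * α⁻¹) ^ (a' * i)) (w ^ c * y ^ d) =
      w ^ (c + i * d) * y ^ d := fun i c d => by
    rw [map_zpow, mul_comm (w ^ c), transvection_zpow hv1 hv2, mul_comm]
    congr 1
    refine zpow_eq_of_dvd (hexp w) ?_
    rw [show c + a * (a' * i) * d - (c + i * d) = (a * a' - 1) * (i * d) by ring]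
    exact dvd_mul_of_dvd_left ha' _
  obtain ⟨h, hh⟩ := exists_inverse (p := p) (r := 2) (by
    intro h
    have h' : p ∣ 2 := by exact_mod_cast h
    exact hp2 (((Nat.dvd_prime Nat.prime_two).1 h').resolve_left hp.out.one_lt.ne'))
  refine ⟨u ^ (r' * 2) * (α * u ^ r' * α⁻¹) ^ (a' * -h) * u ^ (r' * 2) * u ^ (r' * -1) *
    (α * u ^ r' * α⁻¹) ^ (a' * 1) * u ^ (r' * -1), w, h, hα, ?_, ?_, hh⟩
  · generalize α * u ^ r' * α⁻¹ = v at eV
    conv_lhs => rw [show y = w ^ (0 : ℤ) * y ^ (1 : ℤ) by simp]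
    rw [ρ.map_mul, ρ.map_mul, ρ.map_mul, ρ.map_mul, ρ.map_mul, MulAut.mul_apply, MulAut.mul_apply,
      MulAut.mul_apply, MulAut.mul_apply, MulAut.mul_apply, eU, eV, eU, eU, eV, eU]
    ring_nf
    rw [zpow_eq_of_dvd (hexp w) (j := 0), zpow_eq_of_dvd (hexp y) (j := 2), zpow_zero, one_mul]
    all_goals obtain ⟨t, ht⟩ := hh
    all_goals first
      | exact ⟨-2 * t, by linarith⟩
      | exact ⟨-t, by linarith⟩
  · generalize α * u ^ r' * α⁻¹ = v at eV
    conv_lhs => rw [show w = w ^ (1 : ℤ) * y ^ (0 : ℤ) by simp]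
    rw [ρ.map_mul, ρ.map_mul, ρ.map_mul, ρ.map_mul, ρ.map_mul, MulAut.mul_apply, MulAut.mul_apply,
      MulAut.mul_apply, MulAut.mul_apply, MulAut.mul_apply, eU, eV, eU, eU, eV, eU]
    ring_nf
    rw [zpow_eq_of_dvd (hexp y) (j := 0), zpow_zero, mul_one]
    obtain ⟨t, ht⟩ := hh
    exact ⟨t, by linarith⟩

end Cfsg.Agent.Fusion.RankTwoResistant
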