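/-
Coordinates in the rank-two groups `⟨x, y, z | z^x = y z, y^x = y z^(s p^(m-1))⟩`.
-/
import Mathlib
import Cfsg.Agent.GenA.RankTwo.Basic
import Cfsg.Agent.Lib.Fusion.RankTwoResistant.Torus
import Cfsg.Agent.Lib.Fusion.Saturation

set_option autoImplicit false
set_option linter.unusedSectionVars false

namespace Cfsg.Agent.Fusion.RankTwoResistant

open Subgroup

variable {Ω : Type*} [Group Ω]

theorem conj_zpow_eq (g a : Ω) (n : ℤ) : g * a ^ n * g⁻¹ = (g * a * g⁻¹) ^ n :=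
  map_zpow (MulAut.conj g).toMonoidHom a n

theorem commute_of_mem_closure {s : Set Ω} {t : Ω} (h : ∀ a ∈ s, Commute t a) {g : Ω}
    (hg : g ∈ closure s) : Commute t g := by
  induction hg using closure_induction with
  | mem a ha => exact h a ha
  | one => exact Commute.one_right _
  | mul a b _ _ ha hb => exact ha.mul_right hb
  | inv a _ ha => exact ha.inv_right

/-- The data of a group of type `G(p, r; ε)`. -/
structure Data (S : Subgroup Ω) (p m : ℕ) where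
  x : Ω
  y : Ω
  z : Ω
  s : ℕ
  hm : 2 ≤ m
  hgen : S = closure {x, y, z}
  hx : x ^ p = 1
  hy : y ^ p = 1
  hz : z ^ p ^ m = 1
  hyz : y * z = z * y
  hyx : x⁻¹ * y * x = y * z ^ (s * p ^ (m - 1))
  hzx : x⁻¹ * z * x = y * z
  hs : ¬ p ∣ s
  hcard : Nat.card S = p ^ (m + 2)

namespace Data

variable {S : Subgroup Ω} {p m : ℕ} (D : Data S p m)

def ζ : Ω := D.z ^ p ^ (m - 1)

def t : Ω := D.z ^ p

/-- The coordinates of an element. -/
def R (g : Ω) (i j k : ℤ) : Prop := ∃ l : ℤ, g = D.t ^ l * D.y ^ j * D.z ^ k * D.x ^ i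

theorem mem_gen_iff {g : Ω} : g ∈ S ↔ g ∈ closure ({D.x, D.y, D.z} : Set Ω) :=
  SetLike.ext_iff.1 D.hgen g

theorem x_mem : D.x ∈ S := D.mem_gen_iff.2 (subset_closure (by simp))

theorem y_mem : D.y ∈ S := D.mem_gen_iff.2 (subset_closure (by simp))

theorem z_mem : D.z ∈ S := D.mem_gen_iff.2 (subset_closure (by simp))

theorem ζ_eq : D.ζ = D.t ^ p ^ (m - 2) := by
  have := D.hm
  rw [ζ, t, ← pow_mul, ← pow_succ', show m - 2 + 1 = m - 1 by omega]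

theorem t_pow : D.t ^ p ^ (m - 1) = 1 := by
  have := D.hm
  rw [t, ← pow_mul, ← pow_succ', show m - 1 + 1 = m by omega, D.hz]

theorem ζ_pow : D.ζ ^ p = 1 := by
  have := D.hm
  rw [ζ, ← pow_mul, ← pow_succ, show m - 1 + 1 = m by omega, D.hz]

theorem t_mem : D.t ∈ S := pow_mem D.z_mem p

theorem commute_t_gen : Commute D.t D.x ∧ Commute D.t D.y ∧ Commute D.t D.z := by
  have h1 : Commute D.t D.z := Commute.pow_self D.z p
  have h2 : Commute D.t D.y := (Commute.pow_right (show Commute D.y D.z from D.hyz) p).symm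
  refine ⟨?_, h2, h1⟩
  have h3 : D.x⁻¹ * D.t * D.x = D.t := by
    have e := map_pow (MulAut.conj D.x⁻¹).toMonoidHom D.z p
    simp only [MulEquiv.coe_toMonoidHom, MulAut.conj_apply, inv_inv] at e
    rw [t, e, D.hzx, (show Commute D.y D.z from D.hyz).mul_pow, D.hy, one_mul]
  show D.t * D.x = D.x * D.t
  conv_rhs => rw [← h3]
  group

theorem commute_t {g : Ω} (hg : g ∈ S) : Commute D.t g := by
  rw [D.mem_gen_iff] at hg
  refine commute_of_mem_closure ?_ hg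
  rintro a (rfl | rfl | rfl)
  exacts [D.commute_t_gen.1, D.commute_t_gen.2.1, D.commute_t_gen.2.2]

theorem commute_ζ {g : Ω} (hg : g ∈ S) : Commute D.ζ g := by
  rw [D.ζ_eq]; exact (D.commute_t hg).pow_left _

theorem conj_y : D.x * D.y * D.x⁻¹ = D.y * D.ζ ^ (-(D.s : ℤ)) := by
  have h : D.x⁻¹ * D.y * D.x = D.y * D.ζ ^ D.s := by
    rw [D.hyx, ζ, ← pow_mul, mul_comm D.s]
  have h2 : D.y = D.x * D.y * D.x⁻¹ * D.ζ ^ D.s := by
    have h3 : D.x * (D.x⁻¹ * D.y * D.x) * D.x⁻¹ = D.y := by group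
    rw [h, ← mul_assoc, mul_assoc (D.x * D.y), ((D.commute_ζ (inv_mem D.x_mem)).pow_left _).eq,
      ← mul_assoc] at h3
    exact h3.symm
  rw [zpow_neg, zpow_natCast]
  exact eq_mul_inv_of_mul_eq h2.symm

theorem conj_z : D.x * D.z * D.x⁻¹ = D.y⁻¹ * D.ζ ^ (D.s : ℤ) * D.z := by
  have h : (D.x * D.y * D.x⁻¹) * (D.x * D.z * D.x⁻¹) = D.z := by
    calc (D.x * D.y * D.x⁻¹) * (D.x * D.z * D.x⁻¹) = D.x * (D.y * D.z) * D.x⁻¹ := by group
      _ = D.x * (D.x⁻¹ * D.z * D.x) * D.x⁻¹ := by rw [D.hzx]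
      _ = D.z := by group
  rw [eq_inv_mul_of_mul_eq h, D.conj_y, mul_inv_rev, zpow_neg, inv_inv,
    ((D.commute_ζ (inv_mem D.y_mem)).zpow_left _).eq]

theorem conj_x_zpow (i : ℤ) : D.x ^ i * D.y * D.x ^ (-i) = D.y * D.ζ ^ (-(D.s : ℤ) * i) ∧
    ∃ e : ℤ, D.x ^ i * D.z * D.x ^ (-i) = D.y ^ (-i) * D.ζ ^ e * D.z := by
  have hζ : ∀ n : ℤ, D.x * D.ζ ^ n * D.x⁻¹ = D.ζ ^ n := fun n => by
    rw [((D.commute_ζ D.x_mem).zpow_left n).symm.eq, mul_inv_cancel_right]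
  have hζ' : ∀ n : ℤ, D.x⁻¹ * D.ζ ^ n * D.x = D.ζ ^ n := fun n => by
    rw [mul_assoc, ((D.commute_ζ D.x_mem).zpow_left n).eq, inv_mul_cancel_left]
  induction i with
  | zero => exact ⟨by simp, 0, by simp⟩
  | succ i ih =>
    obtain ⟨h1, e, h2⟩ := ih
    refine ⟨?_, -(D.s : ℤ) * -(i : ℤ) + e + D.s, ?_⟩
    · calc D.x ^ ((i : ℤ) + 1) * D.y * D.x ^ (-((i : ℤ) + 1))
          = D.x * (D.x ^ (i : ℤ) * D.y * D.x ^ (-(i : ℤ))) * D.x⁻¹ := by group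
        _ = (D.x * D.y * D.x⁻¹) * (D.x * D.ζ ^ (-(D.s : ℤ) * i) * D.x⁻¹) := by rw [h1]; group
        _ = D.y * D.ζ ^ (-(D.s : ℤ) * ((i : ℤ) + 1)) := by
          rw [hζ, D.conj_y, mul_assoc, ← zpow_add]; ring_nf
    · calc D.x ^ ((i : ℤ) + 1) * D.z * D.x ^ (-((i : ℤ) + 1))
          = D.x * (D.x ^ (i : ℤ) * D.z * D.x ^ (-(i : ℤ))) * D.x⁻¹ := by group
        _ = (D.x * D.y ^ (-(i : ℤ)) * D.x⁻¹) * (D.x * D.ζ ^ e * D.x⁻¹) * (D.x * D.z * D.x⁻¹) := by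
          rw [h2]; group
        _ = D.y ^ (-(i : ℤ)) * (D.ζ ^ (-(D.s : ℤ) * -(i : ℤ)) * D.ζ ^ e) *
            (D.y⁻¹ * D.ζ ^ (D.s : ℤ) * D.z) := by
          rw [hζ, conj_zpow_eq, D.conj_y, D.conj_z,
            ((D.commute_ζ D.y_mem).zpow_left _).symm.mul_zpow, ← zpow_mul]
          simp only [mul_assoc]
        _ = _ := by
          rw [← zpow_add, mul_assoc (D.y ^ _), ← mul_assoc (D.ζ ^ _), ← mul_assoc (D.ζ ^ _),
            ((D.commute_ζ (inv_mem D.y_mem)).zpow_left _).eq, mul_assoc D.y⁻¹, ← zpow_add,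
            ← mul_assoc, ← mul_assoc, ← zpow_neg_one, ← zpow_add]
          ring_nf
  | pred i ih =>
    obtain ⟨h1, e, h2⟩ := ih
    have hy' : D.x⁻¹ * D.y * D.x = D.y * D.ζ ^ (D.s : ℤ) := by
      rw [D.hyx, zpow_natCast, ζ, ← pow_mul, mul_comm D.s]
    refine ⟨?_, (D.s : ℤ) * (i : ℤ) + e, ?_⟩
    · calc D.x ^ (-(i : ℤ) - 1) * D.y * D.x ^ (-(-(i : ℤ) - 1))
          = D.x⁻¹ * (D.x ^ (-(i : ℤ)) * D.y * D.x ^ (-(-(i : ℤ)))) * D.x := by group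
        _ = (D.x⁻¹ * D.y * D.x) * (D.x⁻¹ * D.ζ ^ (-(D.s : ℤ) * -(i : ℤ)) * D.x) := by rw [h1]; group
        _ = D.y * D.ζ ^ (-(D.s : ℤ) * (-(i : ℤ) - 1)) := by
          rw [hζ', hy', mul_assoc, ← zpow_add]; ring_nf
    · calc D.x ^ (-(i : ℤ) - 1) * D.z * D.x ^ (-(-(i : ℤ) - 1))
          = D.x⁻¹ * (D.x ^ (-(i : ℤ)) * D.z * D.x ^ (-(-(i : ℤ)))) * D.x := by group
        _ = (D.x⁻¹ * D.y ^ (-(-(i : ℤ))) * D.x⁻¹⁻¹) * (D.x⁻¹ * D.ζ ^ e * D.x) * (D.x⁻¹ * D.z * D.x) := by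
          rw [h2]; group
        _ = D.y ^ (-(-(i : ℤ))) * (D.ζ ^ ((D.s : ℤ) * -(-(i : ℤ))) * D.ζ ^ e) * (D.y * D.z) := by
          rw [hζ', conj_zpow_eq, inv_inv, hy', D.hzx,
            ((D.commute_ζ D.y_mem).zpow_left _).symm.mul_zpow, ← zpow_mul]
          simp only [mul_assoc]
        _ = D.y ^ (-(-(i : ℤ))) * D.y * (D.ζ ^ ((D.s : ℤ) * -(-(i : ℤ))) * D.ζ ^ e) * D.z := by
          rw [← zpow_add, mul_assoc _ D.y, ← ((D.commute_ζ D.y_mem).zpow_left _).eq]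
          simp only [mul_assoc]
        _ = _ := by
          rw [← zpow_add, ← zpow_add_one]
          congr 2
          · ring_nf
          · ring_nf

theorem conj_uniform (i l j k : ℤ) : ∃ e : ℤ,
    D.x ^ i * (D.t ^ l * D.y ^ j * D.z ^ k) * D.x ^ (-i) =
      D.ζ ^ e * D.t ^ l * D.y ^ (j - i * k) * D.z ^ k := by
  obtain ⟨h1, e, h2⟩ := D.conj_x_zpow i
  refine ⟨-(D.s : ℤ) * i * j + e * k, ?_⟩
  have hxi : D.x ^ i ∈ S := zpow_mem D.x_mem i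
  have hyz : Commute D.y D.z := D.hyz
  have ht : D.x ^ i * D.t ^ l * D.x ^ (-i) = D.t ^ l := by
    rw [← ((D.commute_t hxi).zpow_left l).eq, zpow_neg, mul_inv_cancel_right]
  rw [show D.x ^ i * (D.t ^ l * D.y ^ j * D.z ^ k) * D.x ^ (-i) =
      (D.x ^ i * D.t ^ l * D.x ^ (-i)) * (D.x ^ i * D.y ^ j * D.x ^ (-i)) *
        (D.x ^ i * D.z ^ k * D.x ^ (-i)) by group, ht]
  rw [zpow_neg, conj_zpow_eq, conj_zpow_eq, ← zpow_neg, h1, h2]
  have c1 : Commute D.y (D.ζ ^ (-(D.s : ℤ) * i)) := ((D.commute_ζ D.y_mem).zpow_left _).symm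
  have c2 : Commute (D.y ^ (-i) * D.ζ ^ e) D.z :=
    (hyz.zpow_left _).mul_left ((D.commute_ζ D.z_mem).zpow_left _)
  have c3 : Commute (D.y ^ (-i)) (D.ζ ^ e) :=
    ((D.commute_ζ (zpow_mem D.y_mem (-i))).zpow_left _).symm
  rw [c1.mul_zpow, c2.mul_zpow, c3.mul_zpow, ← zpow_mul, ← zpow_mul, ← zpow_mul]
  set a := D.ζ ^ (-(D.s : ℤ) * i * j)
  set b := D.ζ ^ (e * k)
  have hca : ∀ {g : Ω}, g ∈ S → ∀ n : ℤ, Commute (D.ζ ^ n) g := fun hg n => (D.commute_ζ hg).zpow_left n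
  rw [zpow_add, show j - i * k = j + -i * k by ring, zpow_add]
  have e1 : Commute a (D.y ^ j) := hca (zpow_mem D.y_mem _) _
  have e2 : Commute (D.y ^ (-i * k)) b := (hca (zpow_mem D.y_mem _) _).symm
  have e3 : Commute a (D.t ^ l) := hca (zpow_mem D.t_mem _) _
  have e4 : Commute b (D.t ^ l) := hca (zpow_mem D.t_mem _) _
  have e5 : Commute b (D.y ^ j) := hca (zpow_mem D.y_mem _) _
  calc D.t ^ l * (D.y ^ j * a) * (D.y ^ (-i * k) * b * D.z ^ k)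
      = D.t ^ l * a * D.y ^ j * (b * D.y ^ (-i * k)) * D.z ^ k := by
        rw [← e1.eq, e2.eq]; simp only [mul_assoc]
    _ = a * D.t ^ l * b * D.y ^ j * D.y ^ (-i * k) * D.z ^ k := by
        rw [← e3.eq]; simp only [mul_assoc]; rw [← mul_assoc (D.y ^ j), ← e5.eq]; simp only [mul_assoc]
    _ = a * b * D.t ^ l * (D.y ^ j * D.y ^ (-i * k)) * D.z ^ k := by
        rw [mul_assoc a (D.t ^ l), ← e4.eq]; simp only [mul_assoc]

theorem conj_y_of (i : ℤ) : D.x ^ i * D.y * D.x ^ (-i) = D.y * D.ζ ^ (-(D.s : ℤ) * i) :=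
  (D.conj_x_zpow i).1

theorem R.mem {g : Ω} {i j k : ℤ} (h : D.R g i j k) : g ∈ S := by
  obtain ⟨l, rfl⟩ := h
  exact mul_mem (mul_mem (mul_mem (zpow_mem D.t_mem _) (zpow_mem D.y_mem _)) (zpow_mem D.z_mem _))
    (zpow_mem D.x_mem _)

theorem R_one : D.R 1 0 0 0 := ⟨0, by simp⟩
theorem R_x : D.R D.x 1 0 0 := ⟨0, by simp⟩
theorem R_y : D.R D.y 0 1 0 := ⟨0, by simp⟩
theorem R_z : D.R D.z 0 0 1 := ⟨0, by simp⟩
theorem R_t (l : ℤ) : D.R (D.t ^ l) 0 0 0 := ⟨l, by simp⟩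
theorem R_yzpow (j : ℤ) : D.R (D.y ^ j) 0 j 0 := ⟨0, by simp⟩

theorem R_mul {g g' : Ω} {i j k i' j' k' : ℤ} (h : D.R g i j k) (h' : D.R g' i' j' k') :
    D.R (g * g') (i + i') (j + j' - i * k') (k + k') := by
  obtain ⟨l, rfl⟩ := h
  obtain ⟨l', rfl⟩ := h'
  obtain ⟨e, he⟩ := D.conj_uniform i l' j' k'
  refine ⟨l + (e * ((p ^ (m - 2) : ℕ) : ℤ) + l'), ?_⟩
  have hyz : Commute D.y D.z := D.hyz
  have hζt : D.ζ ^ e = D.t ^ (e * ((p ^ (m - 2) : ℕ) : ℤ)) := by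
    rw [D.ζ_eq, ← zpow_natCast, ← zpow_mul, mul_comm]
  set T := D.t ^ (e * ((p ^ (m - 2) : ℕ) : ℤ) + l') with hT
  have hTc : Commute (D.y ^ j * D.z ^ k) T :=
    ((D.commute_t (mul_mem (zpow_mem D.y_mem _) (zpow_mem D.z_mem _))).zpow_left _).symm
  calc D.t ^ l * D.y ^ j * D.z ^ k * D.x ^ i * (D.t ^ l' * D.y ^ j' * D.z ^ k' * D.x ^ i')
      = D.t ^ l * D.y ^ j * D.z ^ k * (D.x ^ i * (D.t ^ l' * D.y ^ j' * D.z ^ k') * D.x ^ (-i)) *
          (D.x ^ i * D.x ^ i') := by group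
    _ = D.t ^ l * ((D.y ^ j * D.z ^ k) * T) * D.y ^ (j' - i * k') * D.z ^ k' * D.x ^ (i + i') := by
        rw [he, hζt, ← zpow_add, ← hT, ← zpow_add]; simp only [mul_assoc]
    _ = D.t ^ (l + (e * ((p ^ (m - 2) : ℕ) : ℤ) + l')) * D.y ^ j *
          (D.z ^ k * D.y ^ (j' - i * k')) * D.z ^ k' * D.x ^ (i + i') := by
        rw [hTc.eq, zpow_add D.t l, hT]; simp only [mul_assoc]
    _ = _ := by
        rw [((hyz.symm).zpow_zpow k _).eq, show j + j' - i * k' = j + (j' - i * k') by ring,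
          zpow_add D.y, zpow_add D.z]
        simp only [mul_assoc]

theorem R_inv {g : Ω} {i j k : ℤ} (h : D.R g i j k) : D.R g⁻¹ (-i) (-j - i * k) (-k) := by
  obtain ⟨l, rfl⟩ := h
  obtain ⟨e, he⟩ := D.conj_uniform (-i) (-l) (-j) (-k)
  refine ⟨e * ((p ^ (m - 2) : ℕ) : ℤ) + -l, ?_⟩
  have hyz : Commute D.y D.z := D.hyz
  have hc1 : (D.t ^ l * D.y ^ j * D.z ^ k)⁻¹ = D.t ^ (-l) * D.y ^ (-j) * D.z ^ (-k) := by
    have a1 : Commute (D.t ^ (-l)) (D.y ^ (-j) * D.z ^ (-k)) :=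
      (D.commute_t (mul_mem (zpow_mem D.y_mem _) (zpow_mem D.z_mem _))).zpow_left _
    have a2 : Commute (D.y ^ (-j)) (D.z ^ (-k)) := hyz.zpow_zpow _ _
    calc (D.t ^ l * D.y ^ j * D.z ^ k)⁻¹ = D.z ^ (-k) * D.y ^ (-j) * D.t ^ (-l) := by group
      _ = D.y ^ (-j) * D.z ^ (-k) * D.t ^ (-l) := by rw [a2.eq]
      _ = D.t ^ (-l) * D.y ^ (-j) * D.z ^ (-k) := by rw [← a1.eq, mul_assoc]
  rw [neg_neg] at he
  rw [mul_inv_rev, hc1, show (D.x ^ i)⁻¹ = D.x ^ (-i) from (zpow_neg _ _).symm]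
  calc D.x ^ (-i) * (D.t ^ (-l) * D.y ^ (-j) * D.z ^ (-k))
      = D.x ^ (-i) * (D.t ^ (-l) * D.y ^ (-j) * D.z ^ (-k)) * D.x ^ i * D.x ^ (-i) := by group
    _ = _ := by
      rw [he, show D.ζ ^ e = D.t ^ (e * ((p ^ (m - 2) : ℕ) : ℤ)) by
        rw [D.ζ_eq, ← zpow_natCast, ← zpow_mul, mul_comm], ← zpow_add,
        show -j - -i * -k = -j - i * k by ring]

theorem exists_coords {g : Ω} (hg : g ∈ S) : ∃ i j k : ℤ, D.R g i j k := by
  rw [D.mem_gen_iff] at hg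
  induction hg using closure_induction with
  | mem a ha =>
    rcases ha with rfl | rfl | rfl
    exacts [⟨_, _, _, D.R_x⟩, ⟨_, _, _, D.R_y⟩, ⟨_, _, _, D.R_z⟩]
  | one => exact ⟨_, _, _, D.R_one⟩
  | mul a b _ _ ha hb =>
    obtain ⟨_, _, _, ha⟩ := ha
    obtain ⟨_, _, _, hb⟩ := hb
    exact ⟨_, _, _, D.R_mul ha hb⟩
  | inv a _ ha =>
    obtain ⟨_, _, _, ha⟩ := ha
    exact ⟨_, _, _, D.R_inv ha⟩

theorem coords_mem_zpowers {g : Ω} (hg : g ∈ S) :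
    ∃ a ∈ zpowers D.y, ∃ b ∈ zpowers D.z, ∃ c ∈ zpowers D.x, g = a * b * c := by
  obtain ⟨i, j, k, l, rfl⟩ := D.exists_coords hg
  refine ⟨_, ⟨j, rfl⟩, _, mul_mem (zpow_mem (pow_mem (mem_zpowers D.z) p) l) ⟨k, rfl⟩, _, ⟨i, rfl⟩, ?_⟩
  show D.t ^ l * D.y ^ j * D.z ^ k * D.x ^ i = D.y ^ j * ((D.z ^ p) ^ l * D.z ^ k) * D.x ^ i
  rw [((D.commute_t (zpow_mem D.y_mem j)).zpow_left l).eq, t]
  simp only [mul_assoc]

section Card

variable [Finite S] [hp : Fact p.Prime]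

theorem card_le {A B C : Subgroup Ω} (hA : A ≤ S) (hB : B ≤ S) (hC : C ≤ S)
    (h : ∀ g ∈ S, ∃ a ∈ A, ∃ b ∈ B, ∃ c ∈ C, g = a * b * c) :
    Nat.card S ≤ Nat.card A * (Nat.card B * Nat.card C) := by
  have := Fusion.Saturation.finite_of_le hA
  have := Fusion.Saturation.finite_of_le hB
  have := Fusion.Saturation.finite_of_le hC
  choose a ha b hb c hc he using h
  rw [← Nat.card_prod, ← Nat.card_prod]
  refine Nat.card_le_card_of_injective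
    (fun g : S => (⟨a g g.2, ha g g.2⟩, ⟨b g g.2, hb g g.2⟩, ⟨c g g.2, hc g g.2⟩)) fun g g' h => ?_
  simp only [Prod.mk.injEq, Subtype.mk.injEq] at h
  exact Subtype.ext (by rw [he g g.2, he g' g'.2, h.1, h.2.1, h.2.2])

theorem card_y_le : Nat.card (zpowers D.y) ≤ p := by
  rw [Nat.card_zpowers]
  exact Nat.le_of_dvd hp.out.pos (orderOf_dvd_of_pow_eq_one D.hy)

theorem card_x_le : Nat.card (zpowers D.x) ≤ p := by
  rw [Nat.card_zpowers]
  exact Nat.le_of_dvd hp.out.pos (orderOf_dvd_of_pow_eq_one D.hx)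

theorem orderOf_z : orderOf D.z = p ^ m := by
  obtain ⟨i, hi, h⟩ := (Nat.dvd_prime_pow hp.out).1 (orderOf_dvd_of_pow_eq_one D.hz)
  rcases hi.lt_or_eq with hi | hi
  · exfalso
    have h1 := card_le (zpowers_le.2 D.y_mem) (zpowers_le.2 D.z_mem) (zpowers_le.2 D.x_mem)
      fun g hg => D.coords_mem_zpowers hg
    rw [D.hcard, Nat.card_zpowers D.z, h] at h1
    have h2 : p * (p ^ i * p) < p ^ (m + 2) := by
      rw [show p * (p ^ i * p) = p ^ (i + 2) by ring]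
      exact Nat.pow_lt_pow_right hp.out.one_lt (by omega)
    have := Nat.mul_le_mul D.card_y_le (Nat.mul_le_mul (le_refl (p ^ i)) D.card_x_le)
    omega
  · rw [h, hi]

theorem y_not_mem : D.y ∉ zpowers D.z := by
  intro hy
  have h1 := card_le bot_le (zpowers_le.2 D.z_mem) (zpowers_le.2 D.x_mem) fun g hg => by
    obtain ⟨a, ha, b, hb, c, hc, rfl⟩ := D.coords_mem_zpowers hg
    exact ⟨1, one_mem _, a * b, mul_mem (zpowers_le.2 hy ha) hb, c, hc, by rw [one_mul]⟩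
  rw [D.hcard, Nat.card_zpowers D.z, D.orderOf_z, Subgroup.card_bot, one_mul] at h1
  have h2 : p ^ m * p < p ^ (m + 2) := by
    rw [← pow_succ]
    exact Nat.pow_lt_pow_right hp.out.one_lt (by omega)
  have := Nat.mul_le_mul (le_refl (p ^ m)) D.card_x_le
  omega

theorem orderOf_t : orderOf D.t = p ^ (m - 1) := by
  have := D.hm
  rw [t, orderOf_pow' D.z hp.out.ne_zero, D.orderOf_z]
  rw [show p ^ m = p ^ (m - 1) * p by rw [← pow_succ, show m - 1 + 1 = m by omega],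
    Nat.gcd_eq_right (dvd_mul_left p _), Nat.mul_div_cancel _ hp.out.pos]

theorem ζ_ne_one : D.ζ ≠ 1 := by
  have := D.hm
  intro h
  have h1 := orderOf_dvd_of_pow_eq_one (show D.z ^ p ^ (m - 1) = 1 from h)
  rw [D.orderOf_z, Nat.pow_dvd_pow_iff_le_right hp.out.one_lt] at h1
  omega

theorem R_one_imp {i j k : ℤ} (h : D.R 1 i j k) : (p : ℤ) ∣ i ∧ (p : ℤ) ∣ j ∧ (p : ℤ) ∣ k := by
  obtain ⟨l, hl⟩ := h
  have hyz : Commute D.y D.z := D.hyz
  -- `x` is not in `⟨y, z⟩`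
  have hi : (p : ℤ) ∣ i := by
    by_contra hi
    obtain ⟨i', hi'⟩ := exists_inverse hi
    have hxA : D.x ∈ zpowers D.y ⊔ zpowers D.z := by
      have h1 : D.x ^ i ∈ zpowers D.y ⊔ zpowers D.z := by
        have h2 : D.x ^ i = (D.t ^ l * D.y ^ j * D.z ^ k)⁻¹ := eq_inv_of_mul_eq_one_right hl.symm
        rw [h2]
        refine inv_mem (mul_mem (mul_mem (mem_sup_right ?_) (mem_sup_left ⟨j, rfl⟩))
          (mem_sup_right ⟨k, rfl⟩))
        exact zpow_mem (pow_mem (mem_zpowers _) p) l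
      have h3 := zpow_mem h1 i'
      rwa [← zpow_mul, zpow_eq_of_dvd D.hx (j := 1) hi', zpow_one] at h3
    have hA : zpowers D.y ⊔ zpowers D.z ≤ S := sup_le (zpowers_le.2 D.y_mem) (zpowers_le.2 D.z_mem)
    have hform : ∀ g ∈ zpowers D.y ⊔ zpowers D.z, ∃ a ∈ zpowers D.y, ∃ b ∈ zpowers D.z, g = a * b := by
      intro g hg
      rw [sup_eq_closure] at hg
      induction hg using closure_induction with
      | mem a ha =>
        rcases ha with ha | ha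
        exacts [⟨a, ha, 1, one_mem _, (mul_one a).symm⟩, ⟨1, one_mem _, a, ha, (one_mul a).symm⟩]
      | one => exact ⟨1, one_mem _, 1, one_mem _, (mul_one 1).symm⟩
      | mul a b _ _ ha hb =>
        obtain ⟨a₁, ⟨u, rfl⟩, a₂, ⟨v, rfl⟩, rfl⟩ := ha
        obtain ⟨b₁, ⟨u', rfl⟩, b₂, ⟨v', rfl⟩, rfl⟩ := hb
        refine ⟨_, mul_mem ⟨u, rfl⟩ ⟨u', rfl⟩, _, mul_mem ⟨v, rfl⟩ ⟨v', rfl⟩, ?_⟩
        show D.y ^ u * D.z ^ v * (D.y ^ u' * D.z ^ v') = D.y ^ u * D.y ^ u' * (D.z ^ v * D.z ^ v')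
        rw [((hyz.zpow_zpow u' v).symm).mul_mul_mul_comm]
      | inv a _ ha =>
        obtain ⟨a₁, ⟨u, rfl⟩, a₂, ⟨v, rfl⟩, rfl⟩ := ha
        refine ⟨_, ⟨-u, rfl⟩, _, ⟨-v, rfl⟩, ?_⟩
        show (D.y ^ u * D.z ^ v)⁻¹ = D.y ^ (-u) * D.z ^ (-v)
        rw [(hyz.zpow_zpow u v).eq, mul_inv_rev, zpow_neg, zpow_neg]
    have hS : S ≤ zpowers D.y ⊔ zpowers D.z := by
      refine (le_of_eq D.hgen).trans ((closure_le _).2 ?_)
      rintro a (rfl | rfl | rfl)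
      exacts [hxA, mem_sup_left (mem_zpowers _), mem_sup_right (mem_zpowers _)]
    have h1 := card_le (C := ⊥) (zpowers_le.2 D.y_mem) (zpowers_le.2 D.z_mem) bot_le fun g hg => by
      obtain ⟨a, ha, b, hb, rfl⟩ := hform g (hS hg)
      exact ⟨a, ha, b, hb, 1, one_mem _, (mul_one _).symm⟩
    rw [D.hcard, Nat.card_zpowers D.z, D.orderOf_z, Subgroup.card_bot, mul_one] at h1
    have h2 : p * p ^ m < p ^ (m + 2) := by
      rw [← pow_succ']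
      exact Nat.pow_lt_pow_right hp.out.one_lt (by omega)
    have := Nat.mul_le_mul_right (p ^ m) D.card_y_le
    omega
  have hl' : D.y ^ j * D.z ^ (p * l + k) = 1 := by
    rw [zpow_eq_of_dvd D.hx (j := 0) (by simpa using hi), zpow_zero, mul_one,
      ((D.commute_t (zpow_mem D.y_mem j)).zpow_left l).eq, mul_assoc, t, ← zpow_natCast,
      ← zpow_mul, ← zpow_add] at hl
    exact hl.symm
  have hj : (p : ℤ) ∣ j := by
    by_contra hj
    obtain ⟨j', hj'⟩ := exists_inverse hj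
    refine D.y_not_mem (mem_zpowers_iff.2 ⟨-(p * l + k) * j', ?_⟩)
    rw [zpow_mul, zpow_neg, ← eq_inv_of_mul_eq_one_left hl', ← zpow_mul,
      zpow_eq_of_dvd D.hy (j := 1) hj', zpow_one]
  refine ⟨hi, hj, ?_⟩
  rw [zpow_eq_of_dvd D.hy (j := 0) (by simpa using hj), zpow_zero, one_mul] at hl'
  have := orderOf_dvd_iff_zpow_eq_one.2 hl'
  rw [D.orderOf_z] at this
  have h4 : (p : ℤ) ∣ (p : ℤ) * l + k :=
    dvd_trans (by exact_mod_cast dvd_pow_self p (show m ≠ 0 by have := D.hm; omega)) this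
  have h5 := dvd_sub h4 (dvd_mul_right (p : ℤ) l)
  rwa [add_sub_cancel_left] at h5

theorem R_unique {g : Ω} {i j k i' j' k' : ℤ} (h : D.R g i j k) (h' : D.R g i' j' k') :
    (p : ℤ) ∣ i' - i ∧ (p : ℤ) ∣ j' - j ∧ (p : ℤ) ∣ k' - k := by
  have h1 := D.R_mul (D.R_inv h) h'
  rw [inv_mul_cancel] at h1
  obtain ⟨a, b, c⟩ := D.R_one_imp h1
  have c' : (p : ℤ) ∣ k' - k := by rwa [neg_add_eq_sub] at c
  refine ⟨by rwa [neg_add_eq_sub] at a, ?_, c'⟩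
  obtain ⟨u, hu⟩ := b
  obtain ⟨v, hv⟩ := c'
  exact ⟨u - i * v, by linear_combination hu - i * hv⟩

/-- The commutator of two elements, modulo the centre. -/
theorem commutator_coord {g₁ g₂ u : Ω} {i₁ j₁ k₁ i₂ j₂ k₂ e : ℤ} (h₁ : D.R g₁ i₁ j₁ k₁)
    (h₂ : D.R g₂ i₂ j₂ k₂) (hu : D.R u 0 e 0) (he : g₁ * g₂ = u * g₂ * g₁) :
    (p : ℤ) ∣ e - (i₂ * k₁ - i₁ * k₂) := by
  have h3 := (D.R_unique (D.R_mul h₁ h₂) (he ▸ D.R_mul (D.R_mul hu h₂) h₁)).2.1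
  convert h3 using 1
  ring

theorem conj_y_coord {g : Ω} {i j k : ℤ} (h : D.R g i j k) :
    g * D.y * g⁻¹ = D.y * D.ζ ^ (-(D.s : ℤ) * i) := by
  obtain ⟨l, rfl⟩ := h
  have hyz : Commute D.y D.z := D.hyz
  set A := D.t ^ l * D.y ^ j * D.z ^ k with hA
  have hc : Commute A (D.y * D.ζ ^ (-(D.s : ℤ) * i)) :=
    Commute.mul_right ((((D.commute_t D.y_mem).zpow_left l).mul_left
      (Commute.zpow_self D.y j)).mul_left ((hyz.symm).zpow_left k))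
      ((D.commute_ζ (mul_mem (mul_mem (zpow_mem D.t_mem l) (zpow_mem D.y_mem j))
        (zpow_mem D.z_mem k))).zpow_left _).symm
  calc A * D.x ^ i * D.y * (A * D.x ^ i)⁻¹ = A * (D.x ^ i * D.y * D.x ^ (-i)) * A⁻¹ := by group
    _ = _ := by rw [D.conj_y_of, hc.eq, mul_inv_cancel_right]

theorem pow_coord (hp5 : 5 ≤ p) {g : Ω} {i j k : ℤ} (h : D.R g i j k) :
    ∃ l : ℤ, g ^ p = D.t ^ ((p : ℤ) * l + k) ∧ g ^ p ^ (m - 1) = D.ζ ^ k := by
  obtain ⟨l, rfl⟩ := h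
  refine ⟨l, ?_⟩
  set u := D.t ^ l * D.y ^ j * D.z ^ k with hu
  set X := D.x ^ i with hX
  obtain ⟨e, he⟩ := D.conj_uniform i l j k
  obtain ⟨e', he'⟩ := D.conj_uniform i 0 (-i * k) 0
  have hyz : Commute D.y D.z := D.hyz
  set a := D.ζ ^ e * D.y ^ (-i * k) with ha
  have hcy : ∀ n : ℤ, Commute (D.ζ ^ n) (D.y ^ (-i * k)) := fun n =>
    (D.commute_ζ (zpow_mem D.y_mem _)).zpow_left n
  have hap : a ^ p = 1 := by
    rw [ha, (hcy e).mul_pow, ← zpow_natCast, ← zpow_mul, mul_comm e, zpow_mul, zpow_natCast, D.ζ_pow,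
      one_zpow, one_mul, ← zpow_natCast, ← zpow_mul, mul_comm _ (p : ℤ), zpow_mul, zpow_natCast,
      D.hy, one_zpow]
  have hζS : D.ζ ∈ S := D.ζ_eq ▸ pow_mem D.t_mem _
  have huS : u ∈ S := mul_mem (mul_mem (zpow_mem D.t_mem _) (zpow_mem D.y_mem _)) (zpow_mem D.z_mem _)
  have haS : a ∈ S := mul_mem (zpow_mem hζS _) (zpow_mem D.y_mem _)
  have hau : Commute a u := Commute.mul_left ((D.commute_ζ huS).zpow_left _)
    (Commute.mul_right (Commute.mul_right (((D.commute_t (zpow_mem D.y_mem _)).zpow_left l).symm)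
      (Commute.zpow_zpow_self D.y _ _)) (hyz.zpow_zpow _ _))
  have h1 : X * u = u * a * X := by
    have : X * u = (X * u * D.x ^ (-i)) * X := by rw [hX]; group
    rw [this, hX, he, ← hau.eq, ha, hu]
    congr 1
    have e3 : Commute (D.y ^ (-i * k)) (D.t ^ l) :=
      ((D.commute_t (zpow_mem D.y_mem _)).zpow_left l).symm
    rw [show j - i * k = -i * k + j by ring, zpow_add]
    calc D.ζ ^ e * D.t ^ l * (D.y ^ (-i * k) * D.y ^ j) * D.z ^ k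
        = D.ζ ^ e * (D.t ^ l * D.y ^ (-i * k)) * D.y ^ j * D.z ^ k := by simp only [mul_assoc]
      _ = _ := by rw [← e3.eq]; simp only [mul_assoc]
  have h2 : X * a = a * D.ζ ^ e' * X := by
    have h3 : X * D.y ^ (-i * k) * D.x ^ (-i) = D.ζ ^ e' * D.y ^ (-i * k) := by
      have := he'
      simpa [← hX] using this
    calc X * a = (X * D.ζ ^ e) * D.y ^ (-i * k) := by rw [ha, mul_assoc]
      _ = D.ζ ^ e * (X * D.y ^ (-i * k) * D.x ^ (-i)) * X := by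
          rw [← ((D.commute_ζ (zpow_mem D.x_mem i)).zpow_left e).eq, hX]; group
      _ = a * D.ζ ^ e' * X := by rw [h3, (hcy e').eq, ha]; simp only [mul_assoc]
  have hd : (D.ζ ^ e') ^ p = 1 := by
    rw [← zpow_natCast, ← zpow_mul, mul_comm, zpow_mul, zpow_natCast, D.ζ_pow, one_zpow]
  have hdc : ∀ {g : Ω}, g ∈ S → Commute (D.ζ ^ e') g := fun hg => (D.commute_ζ hg).zpow_left e'
  have hpw := GenA.RankTwo.twist_pow hau (hdc huS) (hdc haS) (hdc (zpow_mem D.x_mem i)) h1 h2 p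
  have hXp : X ^ p = 1 := by
    rw [hX, ← zpow_natCast, ← zpow_mul, mul_comm, zpow_mul, zpow_natCast, D.hx, one_zpow]
  rw [GenA.RankTwo.pow_eq_one_of_dvd hap (hp.out.dvd_choose_self (by omega) (by omega)),
    GenA.RankTwo.pow_eq_one_of_dvd hd (hp.out.dvd_choose_self (by omega) (by omega)), hXp] at hpw
  simp only [mul_one] at hpw
  have hup : u ^ p = D.t ^ ((p : ℤ) * l + k) := by
    have a1 : Commute (D.t ^ l * D.y ^ j) (D.z ^ k) :=
      ((D.commute_t (zpow_mem D.z_mem k)).zpow_left l).mul_left (hyz.zpow_zpow _ _)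
    have a2 : Commute (D.t ^ l) (D.y ^ j) := (D.commute_t (zpow_mem D.y_mem j)).zpow_left l
    have ez : (D.z ^ k) ^ p = D.t ^ k := by
      rw [t, ← zpow_natCast, ← zpow_mul, mul_comm, zpow_mul, zpow_natCast]
    have ey : (D.y ^ j) ^ p = 1 := by
      rw [← zpow_natCast, ← zpow_mul, mul_comm, zpow_mul, zpow_natCast, D.hy, one_zpow]
    rw [hu, a1.mul_pow, a2.mul_pow, ez, ey, mul_one, ← zpow_natCast, ← zpow_mul, ← zpow_add,
      mul_comm l]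
  refine ⟨hpw.trans hup, ?_⟩
  have := D.hm
  have e2 : D.t ^ ((p : ℤ) * ((p ^ (m - 2) : ℕ) : ℤ)) = 1 := by
    rw [← Nat.cast_mul, zpow_natCast, ← pow_succ', show m - 2 + 1 = m - 1 by omega, D.t_pow]
  rw [show p ^ (m - 1) = p * p ^ (m - 2) by rw [← pow_succ', show m - 2 + 1 = m - 1 by omega],
    pow_mul, hpw, hup, ← zpow_natCast, ← zpow_mul, add_mul, zpow_add, D.ζ_eq]
  rw [show (p : ℤ) * l * ((p ^ (m - 2) : ℕ) : ℤ) = (p : ℤ) * ((p ^ (m - 2) : ℕ) : ℤ) * l by ring,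
    zpow_mul, e2, one_zpow, one_mul, ← zpow_natCast D.t (p ^ (m - 2)), ← zpow_mul, mul_comm k]

end Card

end Data

end Cfsg.Agent.Fusion.RankTwoResistant
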