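/-
Maximal subgroups `⟨t, y, x z^c⟩`: every automorphism in the system stabilizes `⟨t, y⟩`.
-/
import Mathlib
import Cfsg.Agent.Lib.Fusion.RankTwoResistant.Coords
import Cfsg.Agent.Lib.Fusion.RankTwoResistant.Abelian

set_option autoImplicit false
set_option linter.unusedSectionVars false

namespace Cfsg.Agent.Fusion.RankTwoResistant

open Subgroup Cfsg Cfsg.Agent.Fusion.Basic Cfsg.Agent.Fusion.Saturation

theorem relIndex_le_of_reps {G : Type*} [Group G] {C D : Subgroup G} {p : ℕ} (w : G)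
    (hp : 0 < p) (h : ∀ d ∈ D, ∃ n : ℕ, n < p ∧ (w ^ n)⁻¹ * d ∈ C) : C.relIndex D ≤ p := by
  choose n hn hnC using h
  rw [Subgroup.relIndex, Subgroup.index, ← Nat.card_fin p]
  refine Nat.card_le_card_of_injective
    (fun q : D ⧸ C.subgroupOf D => (⟨n q.out.1 q.out.2, hn _ q.out.2⟩ : Fin p)) fun q q' hq => ?_
  simp only [Fin.mk.injEq] at hq
  rw [← q.out_eq', ← q'.out_eq']
  refine QuotientGroup.eq.2 (mem_subgroupOf.2 ?_)
  have h1 := hnC _ q.out.2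
  have h2 := hnC _ q'.out.2
  rw [← hq] at h2
  have h3 := mul_mem (inv_mem h1) h2
  rw [mul_inv_rev, inv_inv] at h3
  simpa [mul_assoc] using h3

theorem exists_nat_mod {p : ℕ} (hp : 0 < p) (i : ℤ) : ∃ n : ℕ, n < p ∧ (p : ℤ) ∣ i - n := by
  refine ⟨(i % (p : ℤ)).toNat, ?_, ?_⟩
  · have := Int.emod_lt_of_pos i (by exact_mod_cast hp : (0 : ℤ) < p)
    have := Int.emod_nonneg i (by exact_mod_cast hp.ne' : (p : ℤ) ≠ 0)
    omega
  · rw [Int.toNat_of_nonneg (Int.emod_nonneg i (by exact_mod_cast hp.ne'))]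
    exact Int.dvd_self_sub_emod

variable {Ω : Type*} [Group Ω]

namespace Data

variable {S : Subgroup Ω} {p m : ℕ} (D : Data S p m)

theorem R_zpow {g : Ω} {i j k : ℤ} (h : D.R g i j k) (n : ℤ) :
    ∃ j' : ℤ, D.R (g ^ n) (n * i) j' (n * k) := by
  induction n with
  | zero => exact ⟨0, by simpa using D.R_one⟩
  | succ n ih =>
    obtain ⟨j', hj⟩ := ih
    rw [zpow_add_one, add_mul, one_mul, add_mul, one_mul]
    exact ⟨_, D.R_mul hj h⟩
  | pred n ih =>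
    obtain ⟨j', hj⟩ := ih
    rw [zpow_sub_one, sub_mul, one_mul, sub_mul, one_mul, sub_eq_add_neg, sub_eq_add_neg]
    exact ⟨_, D.R_mul hj (D.R_inv h)⟩

theorem R_reduce {g : Ω} {i j k : ℤ} (h : D.R g i j k) (hi : (p : ℤ) ∣ i) (hk : (p : ℤ) ∣ k) :
    ∃ l : ℤ, g = D.t ^ l * D.y ^ j := by
  obtain ⟨l, rfl⟩ := h
  obtain ⟨k', rfl⟩ := hk
  refine ⟨l + k', ?_⟩
  rw [zpow_eq_of_dvd D.hx (j := 0) (by simpa using hi), zpow_zero, mul_one, zpow_mul, zpow_natCast,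
    zpow_add, mul_assoc, mul_assoc]
  congr 1
  exact (((D.commute_t (zpow_mem D.y_mem j)).zpow_left k').symm).eq

/-- The subgroup `⟨t, y⟩`. -/
def B : Subgroup Ω where
  carrier := {g | ∃ i j k : ℤ, D.R g i j k ∧ (p : ℤ) ∣ i ∧ (p : ℤ) ∣ k}
  one_mem' := ⟨0, 0, 0, D.R_one, dvd_zero _, dvd_zero _⟩
  mul_mem' := by
    rintro a b ⟨i, j, k, ha, hi, hk⟩ ⟨i', j', k', hb, hi', hk'⟩
    exact ⟨_, _, _, D.R_mul ha hb, dvd_add hi hi', dvd_add hk hk'⟩
  inv_mem' := by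
    rintro a ⟨i, j, k, ha, hi, hk⟩
    exact ⟨_, _, _, D.R_inv ha, dvd_neg.2 hi, dvd_neg.2 hk⟩

/-- The maximal subgroup `⟨t, y, x z ^ c⟩`. -/
def M (c : ℤ) : Subgroup Ω where
  carrier := {g | ∃ i j k : ℤ, D.R g i j k ∧ (p : ℤ) ∣ k - c * i}
  one_mem' := ⟨0, 0, 0, D.R_one, by simp⟩
  mul_mem' := by
    rintro a b ⟨i, j, k, ha, h⟩ ⟨i', j', k', hb, h'⟩
    refine ⟨_, _, _, D.R_mul ha hb, ?_⟩
    rw [show k + k' - c * (i + i') = (k - c * i) + (k' - c * i') by ring]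
    exact dvd_add h h'
  inv_mem' := by
    rintro a ⟨i, j, k, ha, h⟩
    refine ⟨_, _, _, D.R_inv ha, ?_⟩
    rw [show -k - c * -i = -(k - c * i) by ring]
    exact dvd_neg.2 h

theorem M_le (c : ℤ) : D.M c ≤ S := fun _ ⟨_, _, _, h, _⟩ => R.mem D h

theorem B_le_M (c : ℤ) : D.B ≤ D.M c := fun _ ⟨i, j, k, h, hi, hk⟩ =>
  ⟨i, j, k, h, dvd_sub hk (hi.mul_left c)⟩

theorem t_mem_B : D.t ∈ D.B := ⟨0, 0, 0, by simpa using D.R_t 1, dvd_zero _, dvd_zero _⟩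

theorem y_mem_B : D.y ∈ D.B := ⟨0, 1, 0, D.R_y, dvd_zero _, dvd_zero _⟩

theorem exists_w (c : ℤ) : ∃ (w : Ω) (j : ℤ), D.R w 1 j c ∧ w ∈ D.M c := by
  have h := D.R_mul ⟨0, by simp⟩ D.R_x (g := D.z ^ c) (i := 0) (j := 0) (k := c)
  have h' : D.R (D.z ^ c * D.x) 1 0 c := by simpa using h
  exact ⟨_, _, h', _, _, _, h', by simp⟩

section Fusion

variable [Finite S] [hp : Fact p.Prime] {F : Cfsg.FusionSystem S}

theorem mem_B_iff {g : Ω} {i j k : ℤ} (h : D.R g i j k) :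
    g ∈ D.B ↔ (p : ℤ) ∣ i ∧ (p : ℤ) ∣ k := by
  refine ⟨fun ⟨i', j', k', h', hi, hk⟩ => ?_, fun hh => ⟨i, j, k, h, hh⟩⟩
  obtain ⟨a, -, c⟩ := D.R_unique h h'
  exact ⟨(dvd_sub_right hi).1 a, (dvd_sub_right hk).1 c⟩

theorem mem_M_coord {c : ℤ} {g : Ω} {i j k : ℤ} (h : D.R g i j k) (hg : g ∈ D.M c) :
    (p : ℤ) ∣ k - c * i := by
  obtain ⟨i', j', k', h', hk⟩ := hg
  obtain ⟨a, -, b⟩ := D.R_unique h h'
  have h3 := dvd_sub (dvd_sub hk b) (dvd_neg.2 (a.mul_left c))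
  rwa [show k' - c * i' - (k' - k) - -(c * (i' - i)) = k - c * i by ring] at h3

theorem normal_M (c : ℤ) {g : Ω} (hg : g ∈ S) : g ∈ Subgroup.normalizer (D.M c : Set Ω) := by
  haveI : Finite (D.M c) := finite_of_le (D.M_le c)
  refine mem_normalizer_of_forall fun x ⟨i, j, k, hx, hk⟩ => ?_
  obtain ⟨i', j', k', hg'⟩ := D.exists_coords hg
  exact ⟨_, _, _, D.R_mul (D.R_mul hg' hx) (D.R_inv hg'), by
    rwa [show k' + k + -k' - c * (i' + i + -i') = k - c * i by ring]⟩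

theorem fullyNormalized_M (c : ℤ) : F.IsFullyNormalized (D.M c) := by
  refine ⟨D.M_le c, fun Q _ => ?_⟩
  have he : Cfsg.FusionSystem.normalizerIn S (D.M c) = S :=
    le_antisymm normalizerIn_le (le_inf le_rfl fun g hg => D.normal_M c hg)
  rw [he]
  exact card_le_card normalizerIn_le

/-- The centre of `M`. -/
theorem mem_zpowers_t {c : ℤ} {g : Ω} (hg : g ∈ D.M c) (hc : ∀ x ∈ D.M c, g * x = x * g) :
    g ∈ zpowers D.t := by
  obtain ⟨i, j, k, h, hk⟩ := hg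
  have h1 := D.conj_y_coord h
  rw [hc D.y (D.B_le_M c D.y_mem_B), mul_inv_cancel_right, left_eq_mul] at h1
  have hi : (p : ℤ) ∣ i := by
    have h2 := dvd_of_zpow_eq D.ζ_pow D.ζ_ne_one (h1.trans (zpow_zero _).symm)
    rw [sub_zero] at h2
    refine ((Nat.prime_iff_prime_int.1 hp.out).dvd_or_dvd h2).resolve_left ?_
    rw [dvd_neg]
    exact_mod_cast D.hs
  have hk' : (p : ℤ) ∣ k := (dvd_sub_left (hi.mul_left c)).1 hk
  obtain ⟨l, rfl⟩ := D.R_reduce h hi hk'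
  obtain ⟨w, jw, hw, hwM⟩ := D.exists_w c
  have h3 : w * D.y ^ j * w⁻¹ = D.y ^ j := by
    have h4 := hc w hwM
    have h5 : w * D.t ^ l = D.t ^ l * w := ((D.commute_t (R.mem D hw)).zpow_left l).symm.eq
    rw [mul_assoc, ← mul_assoc w, h5, mul_assoc] at h4
    rw [← mul_left_cancel h4, mul_inv_cancel_right]
  rw [conj_zpow_eq, D.conj_y_coord hw,
    (show Commute D.y (D.ζ ^ (-(D.s : ℤ) * 1)) from
      ((D.commute_ζ D.y_mem).zpow_left _).symm).mul_zpow, mul_eq_left, ← zpow_mul] at h3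
  have h6 := dvd_of_zpow_eq D.ζ_pow D.ζ_ne_one (h3.trans (zpow_zero _).symm)
  rw [sub_zero] at h6
  have hj : (p : ℤ) ∣ j := by
    refine ((Nat.prime_iff_prime_int.1 hp.out).dvd_or_dvd h6).resolve_left ?_
    rw [mul_one, dvd_neg]
    exact_mod_cast D.hs
  rw [zpow_eq_of_dvd D.hy (j := 0) (by simpa using hj), zpow_zero, mul_one]
  exact ⟨l, rfl⟩

theorem map_t {c : ℤ} {f : Ω → Ω} (hf : IsMap F (D.M c) f) (himg : img f (D.M c) = D.M c) :
    f D.t ∈ zpowers D.t := by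
  have htM := D.B_le_M c D.t_mem_B
  refine D.mem_zpowers_t (himg ▸ mem_img_self f htM) fun x hx => ?_
  rw [← himg] at hx
  obtain ⟨u, hu, rfl⟩ := hf.mem_img.1 hx
  rw [← hf.map_mul htM hu, ← hf.map_mul hu htM, (D.commute_t (D.M_le c hu)).eq]

theorem t_pow_mem_M (c : ℤ) (q : ℕ) : D.t ^ q ∈ D.M c := pow_mem (D.B_le_M c D.t_mem_B) q

/-- The invariant series of `M`. -/
def ser (c : ℤ) (i : ℕ) : Subgroup (D.M c) :=
  if i ≤ m - 1 then zpowers ⟨D.t ^ p ^ (m - 1 - i), D.t_pow_mem_M c _⟩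
  else if i = m then D.B.subgroupOf (D.M c) else ⊤

theorem ser_zero (c : ℤ) : D.ser c 0 = ⊥ := by
  rw [ser, if_pos (Nat.zero_le _), zpowers_eq_bot, Subtype.ext_iff]
  exact D.t_pow

theorem ser_top (c : ℤ) : D.ser c (m + 1) = ⊤ := by
  rw [ser, if_neg (by omega), if_neg (by omega)]

theorem ser_mono (c : ℤ) : ∀ i < m + 1, D.ser c i ≤ D.ser c (i + 1) := by
  intro i _
  unfold ser
  split_ifs with h1 h2 h3 h4 h5 h6
  · rw [zpowers_le]
    refine ⟨p, Subtype.ext ?_⟩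
    simp only [zpow_natCast, SubgroupClass.coe_pow]
    rw [← pow_mul, ← pow_succ, show m - 1 - (i + 1) + 1 = m - 1 - i by omega]
  · rw [zpowers_le, mem_subgroupOf]
    exact pow_mem D.t_mem_B _
  · exact le_top
  · omega
  · omega
  · exact le_top
  · omega
  · omega
  · exact le_top

theorem ser_step (c : ℤ) : ∀ i < m + 1, (D.ser c i).relIndex (D.ser c (i + 1)) ≤ p := by
  intro i hi
  have hpos := hp.out.pos
  have := D.hm
  rcases Nat.lt_or_ge i (m - 1) with h | h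
  · rw [ser, if_pos h.le, ser, if_pos (by omega)]
    refine relIndex_le_of_reps ⟨D.t ^ p ^ (m - 1 - (i + 1)), D.t_pow_mem_M c _⟩ hpos fun d hd => ?_
    obtain ⟨l, rfl⟩ := mem_zpowers_iff.1 hd
    obtain ⟨n, hn, ⟨u, hu⟩⟩ := exists_nat_mod hpos l
    refine ⟨n, hn, ⟨u, Subtype.ext ?_⟩⟩
    simp only [Subgroup.coe_mul, SubgroupClass.coe_zpow, SubgroupClass.coe_pow, InvMemClass.coe_inv]
    rw [show p ^ (m - 1 - i) = p ^ (m - 1 - (i + 1)) * p by
        rw [← pow_succ, show m - 1 - (i + 1) + 1 = m - 1 - i by omega],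
      pow_mul (D.t) _ p, ← zpow_natCast _ p, ← zpow_mul, ← hu, ← zpow_natCast _ n, ← zpow_neg,
      ← zpow_add]
    ring_nf
  rcases h.lt_or_eq with h | h
  · rw [ser, if_neg (by omega), if_pos (by omega), ser, if_neg (by omega), if_neg (by omega)]
    obtain ⟨w, jw, hw, hwM⟩ := D.exists_w c
    refine relIndex_le_of_reps ⟨w, hwM⟩ hpos fun d _ => ?_
    obtain ⟨i', j, k, hd, hk⟩ := d.2
    obtain ⟨n, hn, hdiv⟩ := exists_nat_mod hpos i'
    refine ⟨n, hn, mem_subgroupOf.2 ?_⟩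
    obtain ⟨j', hj'⟩ := D.R_zpow hw (n : ℤ)
    have hg := D.R_mul (D.R_inv hj') hd
    simp only [Subgroup.coe_mul, SubgroupClass.coe_pow, InvMemClass.coe_inv]
    rw [← zpow_natCast w n]
    refine ⟨_, _, _, hg, ?_, ?_⟩
    · rwa [mul_one, neg_add_eq_sub]
    · rw [show -((n : ℤ) * c) + k = (k - c * i') + c * (i' - n) by ring]
      exact dvd_add hk (hdiv.mul_left c)
  · subst h
    rw [ser, if_pos le_rfl, ser, if_neg (by omega), if_pos (by omega)]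
    simp only [Nat.sub_self, pow_zero]
    refine relIndex_le_of_reps ⟨D.y, D.B_le_M c D.y_mem_B⟩ hpos fun d hd => ?_
    obtain ⟨i', j, k, hd', hi', hk⟩ := mem_subgroupOf.1 hd
    obtain ⟨l, hl⟩ := D.R_reduce hd' hi' hk
    obtain ⟨n, hn, hdiv⟩ := exists_nat_mod hpos j
    refine ⟨n, hn, ⟨l, Subtype.ext ?_⟩⟩
    simp only [Subgroup.coe_mul, SubgroupClass.coe_zpow, SubgroupClass.coe_pow, InvMemClass.coe_inv]
    rw [hl, pow_one, zpow_eq_of_dvd D.hy (j := (n : ℤ)) hdiv, zpow_natCast,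
      ((D.commute_t (pow_mem D.y_mem n)).zpow_left l).eq, inv_mul_cancel_left]

theorem ser_inv (c : ℤ) {α : MulAut (D.M c)} (hα : α ∈ F.autGroup (D.M c))
    (hy : autFun α D.y ∈ D.B) : ∀ i ≤ m + 1, ∀ x ∈ D.ser c i, α x ∈ D.ser c i := by
  intro i _ x hx
  have hf := isMap_of_mem_autGroup (D.M_le c) hα
  obtain ⟨u, hu⟩ := mem_zpowers_iff.1 (D.map_t hf (autFun_img α))
  unfold ser at hx ⊢
  split_ifs at hx ⊢
  · obtain ⟨l, rfl⟩ := mem_zpowers_iff.1 hx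
    refine ⟨u * l, Subtype.ext ?_⟩
    have h2 : ((α ⟨D.t ^ p ^ (m - 1 - i), D.t_pow_mem_M c _⟩ : D.M c) : Ω) =
        (D.t ^ p ^ (m - 1 - i)) ^ u := by
      have h3 : (⟨D.t ^ p ^ (m - 1 - i), D.t_pow_mem_M c _⟩ : D.M c) =
          ⟨D.t, D.B_le_M c D.t_mem_B⟩ ^ p ^ (m - 1 - i) := rfl
      rw [h3, map_pow, SubgroupClass.coe_pow, ← autFun_of_mem, ← hu, ← zpow_natCast, ← zpow_mul,
        mul_comm, zpow_mul, zpow_natCast]
    rw [map_zpow, SubgroupClass.coe_zpow, SubgroupClass.coe_zpow, h2, ← zpow_mul]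
  · rw [mem_subgroupOf] at hx ⊢
    obtain ⟨i', j, k, hx', hi', hk⟩ := hx
    obtain ⟨l, hl⟩ := D.R_reduce hx' hi' hk
    have hx1 : x = (⟨D.t, D.B_le_M c D.t_mem_B⟩ : D.M c) ^ l * ⟨D.y, D.B_le_M c D.y_mem_B⟩ ^ j :=
      Subtype.ext (by simpa using hl)
    rw [hx1, map_mul, map_zpow, map_zpow, Subgroup.coe_mul, SubgroupClass.coe_zpow,
      SubgroupClass.coe_zpow, ← autFun_of_mem, ← autFun_of_mem, ← hu]
    exact mul_mem (zpow_mem (zpow_mem D.t_mem_B _) _) (zpow_mem hy _)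
  · trivial

theorem exists_moving (hS : IsPGroup p S) {c : ℤ} (hE : F.IsEssential p (D.M c)) :
    ∃ α ∈ F.autGroup (D.M c), autFun α D.y ∉ D.B := by
  by_contra! h
  exact no_series_aut hE hS (D.ser c) (m + 1) (D.ser_zero c) (D.ser_top c) (D.ser_mono c)
    (fun i hi a ha => D.ser_inv c ha (h a ha) i hi) (D.ser_step c)

set_option maxHeartbeats 800000 in
/-- Automorphisms of `M` which stabilize `B` extend to `S`. -/
theorem exists_extension_S (hS : IsPGroup p S) (hF : F.IsSaturated p) {c : ℤ}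
    {α : MulAut (D.M c)} (hα : α ∈ F.autGroup (D.M c)) (hy : autFun α D.y ∈ D.B) :
    ∃ g, IsMap F S g ∧ ∀ x ∈ D.M c, g x = autFun α x := by
  have hMS := D.M_le c
  haveI : Finite (D.M c) := finite_of_le hMS
  have hfn : F.IsFullyNormalized (D.M c) := D.fullyNormalized_M c
  -- the stabilizer of `B`
  let St : Subgroup (MulAut (D.M c)) :=
    { carrier := {β | β ∈ F.autGroup (D.M c) ∧ ∀ x, x ∈ D.B.subgroupOf (D.M c) ↔ β x ∈ D.B.subgroupOf (D.M c)}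
      one_mem' := ⟨one_mem _, fun _ => Iff.rfl⟩
      mul_mem' := fun {a b} ha hb => ⟨mul_mem ha.1 hb.1, fun x => (hb.2 x).trans (ha.2 (b x))⟩
      inv_mem' := fun {a} ha => ⟨inv_mem ha.1, fun x => by
        rw [ha.2 (a⁻¹ x), MulAut.apply_inv_self]⟩ }
  have hstab : ∀ β ∈ F.autGroup (D.M c), autFun β D.y ∈ D.B → β ∈ St := by
    intro β hβ hβy
    refine ⟨hβ, ?_⟩
    have hinj : (D.B.subgroupOf (D.M c)).map β.toMonoidHom ≤ D.B.subgroupOf (D.M c) := by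
      rintro _ ⟨x, hx, rfl⟩
      have h1 := D.ser_inv c hβ hβy m (by omega) x
      rw [ser, if_neg (by have := D.hm; omega), if_pos rfl] at h1
      exact h1 hx
    have heq := eq_of_le_card hinj (by
      rw [Nat.card_congr ((D.B.subgroupOf (D.M c)).equivMapOfInjective β.toMonoidHom β.injective).toEquiv])
    intro x
    refine ⟨fun hx => hinj ⟨x, hx, rfl⟩, fun hx => ?_⟩
    rw [← heq] at hx
    obtain ⟨x', hx', he⟩ := hx
    rwa [← β.injective he]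
  have hR : autInducedBy S (D.M c) ≤ St := by
    intro β hβ
    refine hstab β (autInducedBy_le hMS hβ) ?_
    obtain ⟨g, hg, hge⟩ := mem_autInducedBy_iff'.1 hβ
    rw [hge _ (D.B_le_M c D.y_mem_B), cj_apply]
    obtain ⟨i, j, k, hgc⟩ := D.exists_coords hg.1
    exact ⟨_, _, _, D.R_mul (D.R_mul hgc D.R_y) (D.R_inv hgc), by simp, by simp⟩
  have hαSt : α ∈ St := hstab α hα hy
  -- the `p`-elements of the stabilizer form the normal subgroup `Aut_S(M)`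
  have hser : ∀ i ≤ m + 1, ∀ a ∈ St, ∀ x ∈ D.ser c i, (a : MulAut (D.M c)) x ∈ D.ser c i := by
    intro i hi a ha
    refine D.ser_inv c ha.1 ?_ i hi
    rw [autFun_of_mem _ (D.B_le_M c D.y_mem_B)]
    exact mem_subgroupOf.1 ((ha.2 ⟨D.y, _⟩).1 (mem_subgroupOf.2 D.y_mem_B))
  obtain ⟨R, hR'⟩ := (fullyNormalized_fullyAutomized hS hF hfn).2
  set K := (Cfsg.pCore p St).map St.subtype with hK
  have hKR : autInducedBy S (D.M c) ≤ K := by
    intro β hβ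
    obtain ⟨k, hk⟩ := isPGroup_autInducedBy (P := D.M c) hS ⟨β, hβ⟩
    refine ⟨⟨β, hR hβ⟩, ?_, rfl⟩
    exact EssentialShape.mem_pCore_of_series (hS.to_le hMS) St (D.ser c) (m + 1) (D.ser_zero c)
      (D.ser_top c) (D.ser_mono c) hser (D.ser_step c) (k := k)
      (Subtype.ext (by simpa using congrArg Subtype.val hk))
  have hKA : K ≤ F.autGroup (D.M c) := fun β ⟨b, _, he⟩ => he ▸ b.2.1
  have hKeq : K = autInducedBy S (D.M c) := by
    refine le_antisymm ?_ hKR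
    have hKp : IsPGroup p (K.subgroupOf (F.autGroup (D.M c))) :=
      ((Normal.pCore_isPGroup p St).map St.subtype).of_equiv
        (subgroupOfEquivOfLe hKA).symm
    have h1 : (K.subgroupOf (F.autGroup (D.M c))) = (autInducedBy S (D.M c)).subgroupOf _ := by
      rw [← hR']
      exact R.3 hKp (by rw [hR']; exact comap_mono hKR)
    intro β hβ
    exact (SetLike.ext_iff.1 h1 ⟨β, hKA hβ⟩).1 hβ
  have hnorm : ∀ β ∈ autInducedBy S (D.M c), α * β * α⁻¹ ∈ autInducedBy S (D.M c) := by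
    intro β hβ
    rw [← hKeq] at hβ ⊢
    obtain ⟨b, hb, rfl⟩ := hβ
    have : (Cfsg.pCore p St).Normal := Cfsg.pCore_normal p St
    exact ⟨⟨α, hαSt⟩ * b * ⟨α, hαSt⟩⁻¹, this.conj_mem b hb _, rfl⟩
  obtain ⟨g, hg, hge⟩ := exists_extension hS hF (isMap_of_mem_autGroup hMS hα)
    (by rw [autFun_img]; exact fullyNormalized_fullyCentralized hS hF hfn)
  have hN : S ≤ nSub S (D.M c) (autFun α) := by
    intro s hs
    have hsN : s ∈ S ⊓ Subgroup.normalizer (D.M c : Set Ω) := ⟨hs, D.normal_M c hs⟩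
    obtain ⟨h, hh, hhe⟩ := mem_autInducedBy_iff'.1
      (hnorm _ (conjAut_range S (D.M c) ▸ ⟨⟨s, hsN⟩, rfl⟩ :
        conjAut S (D.M c) ⟨s, hsN⟩ ∈ autInducedBy S (D.M c)))
    refine ⟨hs, hsN.2, h, hh.1, fun x hx => ?_⟩
    have h3 := hhe _ (autFun_mem α hx)
    rw [autFun_mul, autFun_mul, autFun_inv_apply, conjAut_apply ⟨s, hsN⟩ hx] at h3
    exact h3
  exact ⟨g, hg.restrict hN, hge⟩

set_option maxHeartbeats 800000 in
/-- Possible weights of automorphisms stabilizing `B`. -/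
theorem weights (hS : IsPGroup p S) (hF : F.IsSaturated p) (hp5 : 5 ≤ p) {c : ℤ}
    {α : MulAut (D.M c)} (hα : α ∈ F.autGroup (D.M c)) {b : ℤ} (hy : D.R (autFun α D.y) 0 b 0)
    {w : Ω} (hwM : w ∈ D.M c) {i₀ j₀ k₀ : ℤ} (hw : D.R w i₀ j₀ k₀) (hi₀ : ¬ (p : ℤ) ∣ i₀)
    {a j₁ k₁ : ℤ} (hw' : D.R (autFun α w) (a * i₀) j₁ k₁) :
    (p : ℤ) ∣ b - 1 ∨ (p : ℤ) ∣ a * a - 1 := by
  have hpr := Nat.prime_iff_prime_int.1 hp.out
  obtain ⟨g, hg, hge⟩ := D.exists_extension_S hS hF hα ⟨0, b, 0, hy, dvd_zero _, dvd_zero _⟩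
  have hyM := D.B_le_M c D.y_mem_B
  rw [← hge _ hyM] at hy
  rw [← hge _ hwM] at hw'
  have hk₀ := D.mem_M_coord hw hwM
  have hk₁ : (p : ℤ) ∣ k₁ - c * (a * i₀) := by
    refine D.mem_M_coord hw' ?_
    rw [hge _ hwM]
    exact autFun_mem α hwM
  have hzS := D.z_mem
  have hwS := D.M_le c hwM
  obtain ⟨i', j', k', hz'⟩ := D.exists_coords (hg.mem hzS)
  -- `[z, w]`
  set u := D.z * w * D.z⁻¹ * w⁻¹ with hu
  obtain ⟨l, hl⟩ : ∃ l : ℤ, u = D.t ^ l * D.y ^ (i₀ : ℤ) := by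
    obtain ⟨l, hl⟩ := D.R_reduce (D.R_mul (D.R_mul (D.R_mul D.R_z hw) (D.R_inv D.R_z)) (D.R_inv hw))
      (by simp) (by simp)
    refine ⟨l, ?_⟩
    rw [← hu] at hl
    rw [hl]
    congr 1
    refine zpow_eq_of_dvd D.hy ?_
    have h1 := D.commutator_coord (e := _) D.R_z hw (u := u) ⟨l, by rw [hl]; simp; rfl⟩
      (by rw [hu]; group)
    simpa using h1
  have htu : ∃ l' : ℤ, g u = D.t ^ l' * g D.y ^ (i₀ : ℤ) := by
    obtain ⟨v, hv⟩ := mem_zpowers_iff.1 (D.map_t (hg.restrict (D.M_le c))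
      (by rw [img_congr hge, autFun_img]))
    refine ⟨v * l, ?_⟩
    have hzp : ∀ {q : Ω} (n : ℤ), q ∈ S → g (q ^ n) = g q ^ n := fun {q} n hq =>
      map_zpow (hg.hom) ⟨q, hq⟩ n
    rw [hl, hg.map_mul (zpow_mem D.t_mem _) (zpow_mem D.y_mem _), hzp _ D.t_mem, hzp _ D.y_mem,
      ← hv, ← zpow_mul]
  obtain ⟨l', hl'⟩ := htu
  have hgu : g D.z * g w = g u * g w * g D.z := by
    have hu' : u ∈ S := mul_mem (mul_mem (mul_mem hzS hwS) (inv_mem hzS)) (inv_mem hwS)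
    rw [← hg.map_mul hzS hwS, ← hg.map_mul hu' hwS, ← hg.map_mul (mul_mem hu' hwS) hzS]
    congr 1
    rw [hu]; group
  have hRu : ∃ e, D.R (g u) 0 e 0 ∧ (p : ℤ) ∣ e - b * i₀ := by
    obtain ⟨j₂, hj₂⟩ := D.R_zpow hy i₀
    obtain ⟨l₂, hl₂⟩ := hy
    refine ⟨b * i₀, ⟨l' + l₂ * i₀, ?_⟩, by simp⟩
    rw [hl', hl₂]
    simp only [zpow_zero, mul_one]
    rw [((D.commute_t (zpow_mem D.y_mem b)).zpow_left l₂).mul_zpow, ← zpow_mul, ← zpow_mul,
      zpow_add, mul_assoc, mul_comm b]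
  obtain ⟨e, he, hei⟩ := hRu
  have h2 := D.commutator_coord hz' hw' he hgu
  -- `ζ`
  have hζM : D.ζ ∈ D.M c := D.ζ_eq ▸ D.t_pow_mem_M c _
  have hζ1 : g D.ζ = D.ζ ^ (a * b) := by
    have hc1 : w * D.y * w⁻¹ = D.y * D.ζ ^ (-(D.s : ℤ) * i₀) := D.conj_y_coord hw
    obtain ⟨l₂, hl₂⟩ := hy
    simp only [zpow_zero, mul_one] at hl₂
    have hc2 : g w * g D.y * (g w)⁻¹ = g D.y * D.ζ ^ (-(D.s : ℤ) * (a * i₀) * b) := by
      have hgwS := R.mem D hw'
      rw [hl₂, ← mul_assoc, ((D.commute_t hgwS).zpow_left l₂).symm.eq, mul_assoc (D.t ^ l₂) (g w),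
        mul_assoc (D.t ^ l₂), conj_zpow_eq, D.conj_y_coord hw',
        ((D.commute_ζ D.y_mem).zpow_left _).symm.mul_zpow, ← zpow_mul]
      simp only [mul_assoc]
    rw [← hg.map_conj hwS D.y_mem, hc1,
      hg.map_mul D.y_mem (zpow_mem (D.M_le c hζM) _), mul_right_inj] at hc2
    rw [show g (D.ζ ^ (-(D.s : ℤ) * i₀)) = g D.ζ ^ (-(D.s : ℤ) * i₀) from
      map_zpow (hg.hom) ⟨D.ζ, D.M_le c hζM⟩ _] at hc2
    obtain ⟨v, hv⟩ := mem_zpowers_iff.1 (D.map_t (hg.restrict (D.M_le c))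
      (by rw [img_congr hge, autFun_img]))
    have hgζ : g D.ζ = D.ζ ^ v := by
      rw [D.ζ_eq, show g (D.t ^ p ^ (m - 2)) = g D.t ^ p ^ (m - 2) from
        map_pow (hg.hom) ⟨D.t, D.t_mem⟩ _, ← hv, ← zpow_natCast, ← zpow_natCast, ← zpow_mul,
        ← zpow_mul, mul_comm]
    rw [hgζ, ← zpow_mul] at hc2
    have h4 := dvd_of_zpow_eq D.ζ_pow D.ζ_ne_one hc2
    rw [hgζ]
    refine zpow_eq_of_dvd D.ζ_pow ?_
    rw [show v * (-(D.s : ℤ) * i₀) - -(D.s : ℤ) * (a * i₀) * b = -(D.s : ℤ) * i₀ * (v - a * b) by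
      ring] at h4
    refine (hpr.dvd_or_dvd h4).resolve_left fun h => ?_
    rcases hpr.dvd_or_dvd h with h | h
    · rw [dvd_neg] at h; exact D.hs (by exact_mod_cast h)
    · exact hi₀ h
  have hζ2 : g D.ζ = D.ζ ^ k' := by
    obtain ⟨_, -, h3⟩ := D.pow_coord hp5 hz'
    rw [← h3]
    exact map_pow (hg.hom) ⟨D.z, hzS⟩ _
  have hk' : (p : ℤ) ∣ a * b - k' := dvd_of_zpow_eq D.ζ_pow D.ζ_ne_one (hζ1.symm.trans hζ2)
  by_cases hc : (p : ℤ) ∣ c
  · right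
    -- here `b ≡ a k'`
    obtain ⟨A, hA⟩ := h2
    obtain ⟨B', hB⟩ := hei
    obtain ⟨C, hC⟩ := hk₁
    obtain ⟨E, hE⟩ := hk'
    obtain ⟨G, hG⟩ := hc
    have h5 : (p : ℤ) ∣ i₀ * b * (a * a - 1) :=
      ⟨-(A - B' - i' * C - G * (a * i₀ * i') - a * i₀ * E), by
        subst hG
        linear_combination (-1 : ℤ) * hA + hB + i' * hC + a * i₀ * hE⟩
    have hb : ¬ (p : ℤ) ∣ b := fun hb => by
      have h6 : g D.ζ = 1 := by
        rw [hζ1, zpow_eq_of_dvd D.ζ_pow (j := 0) (by simpa using hb.mul_left a), zpow_zero]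
      exact D.ζ_ne_one (hg.inj (D.M_le c hζM) (one_mem S) (by rw [h6, hg.map_one]))
    exact (hpr.dvd_or_dvd h5).resolve_left fun h => (hpr.dvd_or_dvd h).elim hi₀ hb
  · left
    -- `π w` and its image
    obtain ⟨_, -, h3⟩ := D.pow_coord hp5 hw
    obtain ⟨_, -, h3'⟩ := D.pow_coord hp5 hw'
    have h4 : D.ζ ^ k₁ = g D.ζ ^ k₀ := by
      rw [← h3', show g D.ζ ^ k₀ = g (D.ζ ^ k₀) from (map_zpow (hg.hom) ⟨D.ζ, D.M_le c hζM⟩ k₀).symm,
        ← h3]
      exact (map_pow (hg.hom) ⟨w, hwS⟩ _).symm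
    rw [hζ1, ← zpow_mul] at h4
    have h5 := dvd_of_zpow_eq D.ζ_pow D.ζ_ne_one h4
    obtain ⟨A, hA⟩ := h5
    obtain ⟨B', hB⟩ := hk₀
    obtain ⟨C, hC⟩ := hk₁
    have ha : ¬ (p : ℤ) ∣ a := fun h => by
      have h6 : g D.ζ = 1 := by
        rw [hζ1, zpow_eq_of_dvd D.ζ_pow (j := 0) (by simpa using h.mul_right b), zpow_zero]
      exact D.ζ_ne_one (hg.inj (D.M_le c hζM) (one_mem S) (by rw [h6, hg.map_one]))
    have h7 : (p : ℤ) ∣ c * i₀ * a * (b - 1) :=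
      ⟨-A - B' * (a * b) + C, by linear_combination (-1 : ℤ) * hA - a * b * hB + hC⟩
    refine (hpr.dvd_or_dvd h7).resolve_left fun h => ?_
    exact (hpr.dvd_or_dvd h).elim (fun h => (hpr.dvd_or_dvd h).elim hc hi₀) ha

set_option maxHeartbeats 800000 in
/-- No automorphism of `M` in the system moves `B`. -/
theorem not_moving (hS : IsPGroup p S) (hF : F.IsSaturated p) (hp5 : 5 ≤ p) {c : ℤ}
    {α : MulAut (D.M c)} (hα : α ∈ F.autGroup (D.M c)) : autFun α D.y ∈ D.B := by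
  by_contra hmove
  have hMS := D.M_le c
  haveI : Finite (D.M c) := finite_of_le hMS
  set Z := Subgroup.center (D.M c)
  have hZ : ∀ x : D.M c, x ∈ Z ↔ (x : Ω) ∈ zpowers D.t := by
    intro x
    constructor
    · intro hx
      refine D.mem_zpowers_t x.2 fun q hq => ?_
      exact (congrArg Subtype.val (Subgroup.mem_center_iff.1 hx ⟨q, hq⟩)).symm
    · intro hx
      obtain ⟨l, hl⟩ := mem_zpowers_iff.1 hx
      refine Subgroup.mem_center_iff.2 fun q => Subtype.ext ?_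
      simp only [Subgroup.coe_mul, ← hl]
      exact (((D.commute_t (hMS q.2)).zpow_left l).symm).eq
  have hcongr : ∀ q : D.M c, ∀ i j k : ℤ, D.R (q : Ω) i j k →
      ((q : (D.M c) ⧸ Z) = 1 ↔ (p : ℤ) ∣ i ∧ (p : ℤ) ∣ j ∧ (p : ℤ) ∣ k) := by
    intro q i j k hq
    rw [QuotientGroup.eq_one_iff, hZ]
    constructor
    · intro h
      obtain ⟨l, hl⟩ := mem_zpowers_iff.1 h
      obtain ⟨a, b, e⟩ := D.R_unique (hl ▸ D.R_t l) hq
      simp only [sub_zero] at a b e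
      exact ⟨a, b, e⟩
    · rintro ⟨hi, hj, hk⟩
      obtain ⟨l, hl⟩ := D.R_reduce hq hi hk
      refine ⟨l, ?_⟩
      rw [hl, zpow_eq_of_dvd D.hy (j := 0) (by simpa using hj), zpow_zero, mul_one]
  have hcomm : ∀ a b : (D.M c) ⧸ Z, a * b = b * a := by
    intro a b
    induction a using QuotientGroup.induction_on with
    | H a =>
      induction b using QuotientGroup.induction_on with
      | H b =>
        obtain ⟨ia, ja, ka, ha, hka⟩ := a.2
        obtain ⟨ib, jb, kb, hb, hkb⟩ := b.2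
        have hu := D.R_mul (D.R_mul (D.R_mul ha hb) (D.R_inv ha)) (D.R_inv hb)
        have h1 : ((a * b * a⁻¹ * b⁻¹ : D.M c) : (D.M c) ⧸ Z) = 1 := by
          refine (hcongr _ _ _ _ hu).2 ⟨by simp, ?_, by simp⟩
          obtain ⟨u, hu1⟩ := hka
          obtain ⟨v, hv1⟩ := hkb
          refine ⟨ib * u - ia * v, ?_⟩
          linear_combination ib * hu1 - ia * hv1
        simp only [QuotientGroup.mk_mul, QuotientGroup.mk_inv] at h1
        exact mul_inv_eq_one.1 (by rw [mul_inv_rev]; simpa [mul_assoc] using h1)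
  letI : CommGroup ((D.M c) ⧸ Z) :=
    { (inferInstance : Group ((D.M c) ⧸ Z)) with mul_comm := hcomm }
  let ρ₀ : MulAut (D.M c) →* MulAut ((D.M c) ⧸ Z) :=
    { toFun := fun β => QuotientGroup.congr Z Z β
        (Subgroup.characteristic_iff_map_eq.1 inferInstance β)
      map_one' := MulEquiv.ext fun q => QuotientGroup.induction_on q fun _ => rfl
      map_mul' := fun _ _ => MulEquiv.ext fun q => QuotientGroup.induction_on q fun _ => rfl }
  let ρ := ρ₀.comp (F.autGroup (D.M c)).subtype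
  have hρ : ∀ (β : F.autGroup (D.M c)) (q : D.M c),
      ρ β (q : (D.M c) ⧸ Z) = (((β : MulAut (D.M c)) q : D.M c) : (D.M c) ⧸ Z) := fun _ _ => rfl
  set y' : D.M c := ⟨D.y, D.B_le_M c D.y_mem_B⟩ with hy'
  -- membership in `⟨ȳ⟩`
  have hline : ∀ q : D.M c, (q : (D.M c) ⧸ Z) ∈ zpowers (y' : (D.M c) ⧸ Z) ↔ (q : Ω) ∈ D.B := by
    intro q
    obtain ⟨i, j, k, hq, -⟩ := q.2
    rw [D.mem_B_iff hq]
    constructor
    · intro h
      obtain ⟨l, hl⟩ := mem_zpowers_iff.1 h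
      rw [← QuotientGroup.mk_zpow, eq_comm, ← mul_inv_eq_one, ← QuotientGroup.mk_inv,
        ← QuotientGroup.mk_mul] at hl
      obtain ⟨a, -, e⟩ := (hcongr _ _ _ _ (D.R_mul hq (D.R_inv (by
        rw [SubgroupClass.coe_zpow]; exact D.R_yzpow l)))).1 hl
      simp only [neg_zero, add_zero] at a e
      exact ⟨a, e⟩
    · rintro ⟨hi, hk⟩
      refine mem_zpowers_iff.2 ⟨j, ?_⟩
      rw [← QuotientGroup.mk_zpow, eq_comm, ← mul_inv_eq_one, ← QuotientGroup.mk_inv,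
        ← QuotientGroup.mk_mul]
      refine (hcongr _ _ _ _ (D.R_mul hq (D.R_inv (by
        rw [SubgroupClass.coe_zpow]; exact D.R_yzpow j)))).2 ⟨?_, ?_, ?_⟩
      · simpa using hi
      · simp
      · simpa using hk
  have hexp : ∀ q : (D.M c) ⧸ Z, q ^ p = 1 := by
    intro q
    induction q using QuotientGroup.induction_on with
    | H q =>
      obtain ⟨i, j, k, hq, -⟩ := q.2
      obtain ⟨l, hl, -⟩ := D.pow_coord hp5 hq
      rw [← QuotientGroup.mk_pow, QuotientGroup.eq_one_iff, hZ, SubgroupClass.coe_pow, hl]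
      exact ⟨_, rfl⟩
  have hy1 : (y' : (D.M c) ⧸ Z) ≠ 1 := fun h => by
    have := (hcongr y' 0 1 0 D.R_y).1 h
    have h1 := Int.le_of_dvd one_pos this.2.1
    omega
  have hgen : ∀ w : (D.M c) ⧸ Z, w ∉ zpowers (y' : (D.M c) ⧸ Z) →
      ∀ q, ∃ a b : ℤ, q = w ^ a * (y' : (D.M c) ⧸ Z) ^ b := by
    intro w
    induction w using QuotientGroup.induction_on with
    | H w =>
      intro hw q
      induction q using QuotientGroup.induction_on with
      | H q =>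
        rw [hline] at hw
        obtain ⟨i, j, k, hq, hk⟩ := q.2
        obtain ⟨iw, jw, kw, hw', hkw⟩ := w.2
        have hiw : ¬ (p : ℤ) ∣ iw := fun h => hw ((D.mem_B_iff hw').2
          ⟨h, (dvd_sub_left (h.mul_left c)).1 hkw⟩)
        obtain ⟨v, hv⟩ := exists_inverse hiw
        obtain ⟨j', hj'⟩ := D.R_zpow hw' (v * i)
        have hmem : (((w ^ (v * i))⁻¹ * q : D.M c) : (D.M c) ⧸ Z) ∈ zpowers (y' : (D.M c) ⧸ Z) := by
          rw [hline]
          rw [Subgroup.coe_mul, Subgroup.coe_inv, SubgroupClass.coe_zpow]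
          refine (D.mem_B_iff (D.R_mul (D.R_inv hj') hq)).2 ⟨?_, ?_⟩
          · obtain ⟨u, hu⟩ := hv
            exact ⟨-(i * u), by linear_combination (-i) * hu⟩
          · obtain ⟨u, hu⟩ := hv
            obtain ⟨u', hu'⟩ := hkw
            obtain ⟨u'', hu''⟩ := hk
            exact ⟨-(v * i * u') - c * i * u + u'', by
              linear_combination (-(v * i)) * hu' - c * i * hu + hu''⟩
        obtain ⟨b, hb⟩ := mem_zpowers_iff.1 hmem
        refine ⟨v * i, b, ?_⟩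
        rw [hb, QuotientGroup.mk_mul, QuotientGroup.mk_inv, QuotientGroup.mk_zpow, mul_inv_cancel_left]
  -- conjugation by `z`
  have hzN : D.z ∈ S ⊓ Subgroup.normalizer (D.M c : Set Ω) := ⟨D.z_mem, D.normal_M c D.z_mem⟩
  let u : F.autGroup (D.M c) := ⟨conjAut S (D.M c) ⟨D.z, hzN⟩,
    autInducedBy_le hMS (conjAut_range S (D.M c) ▸ ⟨_, rfl⟩)⟩
  have hu0 : ∀ q : D.M c, (((u : MulAut (D.M c)) q : D.M c) : Ω) = D.z * q * D.z⁻¹ := fun _ => rfl
  have huy : ρ u (y' : (D.M c) ⧸ Z) = y' := by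
    rw [hρ]
    congr 1
    exact Subtype.ext ((hu0 y').trans (by
      show D.z * D.y * D.z⁻¹ = D.y
      rw [← D.hyz, mul_inv_cancel_right]))
  have hu : ∀ q, ρ u q / q ∈ zpowers (y' : (D.M c) ⧸ Z) := by
    intro q
    induction q using QuotientGroup.induction_on with
    | H q =>
      rw [hρ, ← QuotientGroup.mk_div, hline, Subgroup.coe_div, hu0, div_eq_mul_inv]
      obtain ⟨i, j, k, hq, -⟩ := q.2
      exact ⟨_, _, _, D.R_mul (D.R_mul (D.R_mul D.R_z hq) (D.R_inv D.R_z)) (D.R_inv hq),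
        by simp, by simp⟩
  have hu1 : ∀ q, q ∉ zpowers (y' : (D.M c) ⧸ Z) → ρ u q ≠ q := by
    intro q
    induction q using QuotientGroup.induction_on with
    | H q =>
      intro hq h
      rw [hline] at hq
      obtain ⟨i, j, k, hq', hk⟩ := q.2
      rw [hρ, ← div_eq_one, ← QuotientGroup.mk_div] at h
      have h1 := D.R_mul (D.R_mul (D.R_mul D.R_z hq') (D.R_inv D.R_z)) (D.R_inv hq')
      obtain ⟨-, h2, -⟩ := (hcongr _ _ _ _ (by
        rw [Subgroup.coe_div, hu0, div_eq_mul_inv]; exact h1)).1 h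
      refine hq ((D.mem_B_iff hq').2 ?_)
      have hi : (p : ℤ) ∣ i := by
        obtain ⟨v, hv⟩ := h2
        exact ⟨v, by linear_combination hv⟩
      exact ⟨hi, (dvd_sub_left (hi.mul_left c)).1 hk⟩
  obtain ⟨T, w, h, hw, hTy, hTw, hh⟩ := exists_torus ρ (by omega) hexp hy1 hgen huy hu hu1
    (α := ⟨α, hα⟩) (by
      rw [hρ, hline]
      rwa [autFun_of_mem _ (D.B_le_M c D.y_mem_B)] at hmove)
  induction w using QuotientGroup.induction_on with
  | H w =>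
    rw [hline] at hw
    obtain ⟨i₀, j₀, k₀, hw', hk₀⟩ := w.2
    have hi₀ : ¬ (p : ℤ) ∣ i₀ := fun hi => hw ((D.mem_B_iff hw').2
      ⟨hi, (dvd_sub_left (hi.mul_left c)).1 hk₀⟩)
    rw [hρ, ← QuotientGroup.mk_zpow, QuotientGroup.eq, hZ] at hTy hTw
    obtain ⟨l₁, hl₁⟩ := mem_zpowers_iff.1 hTy
    obtain ⟨l₂, hl₂⟩ := mem_zpowers_iff.1 hTw
    rw [Subgroup.coe_mul, Subgroup.coe_inv, eq_inv_mul_iff_mul_eq, ← eq_mul_inv_iff_mul_eq,
      SubgroupClass.coe_zpow] at hl₁ hl₂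
    obtain ⟨j₁, hj₁⟩ := D.R_zpow hw' h
    have h1 : D.R (autFun (T : MulAut (D.M c)) D.y) 0 2 0 := by
      rw [autFun_of_mem _ (D.B_le_M c D.y_mem_B), hl₁, ← zpow_neg]
      simpa using D.R_mul (D.R_yzpow 2) (D.R_t (-l₁))
    have h2 : D.R (autFun (T : MulAut (D.M c)) (w : Ω)) (h * i₀) j₁ (h * k₀) := by
      rw [autFun_apply, hl₂, ← zpow_neg]
      simpa using D.R_mul hj₁ (D.R_t (-l₂))
    rcases D.weights hS hF hp5 T.2 h1 w.2 hw' hi₀ h2 with h3 | h3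
    · have := Int.le_of_dvd (by norm_num) h3
      omega
    · have h4 : (p : ℤ) ∣ 3 := by
        obtain ⟨u, hu⟩ := hh
        obtain ⟨v, hv⟩ := h3
        exact ⟨-4 * v + u * (2 * h + 1), by linear_combination (2 * h + 1) * hu - 4 * hv⟩
      have := Int.le_of_dvd (by norm_num) h4
      omega

theorem not_essential_M (hS : IsPGroup p S) (hF : F.IsSaturated p) (hp5 : 5 ≤ p) (c : ℤ) :
    ¬ F.IsEssential p (D.M c) := fun h => by
  obtain ⟨α, hα, hmove⟩ := D.exists_moving hS h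
  exact hmove (D.not_moving hS hF hp5 hα)

end Fusion

end Data

end Cfsg.Agent.Fusion.RankTwoResistant
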