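/-
The nonmetacyclic `p`-groups of rank two have no essential subgroups in any saturated system, `p ≥ 5`.
-/
import Mathlib
import Cfsg.Agent.Lib.Fusion.RankTwoResistant.Maximal

set_option autoImplicit false
set_option linter.unusedSectionVars false

namespace Cfsg.Agent.Fusion.RankTwoResistant

open Subgroup Cfsg Cfsg.Agent.Fusion.Basic Cfsg.Agent.Fusion.Saturation

variable {Ω : Type*} [Group Ω] {S : Subgroup Ω} [Finite S] {p m : ℕ} [hp : Fact p.Prime]
  {F : Cfsg.FusionSystem S} {E : Subgroup Ω}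

theorem center_le_essential (hE : F.IsEssential p E) {g : Ω} (hg : g ∈ S)
    (hc : ∀ s ∈ S, g * s = s * g) : g ∈ E :=
  centric_centralizerIn_le hE.1 ⟨hg, fun q hq => (hc q (hE.1.1 hq)).symm⟩

namespace Data

variable (D : Data S p m)

theorem conj_of_y {q : Ω} {i j k : ℤ} (h : D.R q i j k) (n : ℤ) :
    D.y ^ n * q * (D.y ^ n)⁻¹ = D.ζ ^ ((D.s : ℤ) * i * n) * q := by
  have h1 : q * D.y ^ n * q⁻¹ = D.y ^ n * D.ζ ^ (-(D.s : ℤ) * i * n) := by
    rw [conj_zpow_eq, D.conj_y_coord h,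
      ((D.commute_ζ D.y_mem).zpow_left _).symm.mul_zpow, ← zpow_mul]
  have hc := (D.commute_ζ (mul_mem (zpow_mem D.y_mem n) (R.mem D h))).zpow_left ((D.s : ℤ) * i * n)
  rw [mul_inv_eq_iff_eq_mul] at h1
  rw [mul_inv_eq_iff_eq_mul, mul_assoc _ q, h1, ← mul_assoc, ← mul_assoc,
    ((D.commute_ζ (zpow_mem D.y_mem n)).zpow_left ((D.s : ℤ) * i * n)).eq,
    mul_assoc (D.y ^ n) _ (D.ζ ^ _), ← zpow_add]
  simp

/-- No elementary abelian `⟨t, w⟩` is essential. -/
theorem not_essential_pearl (hS : IsPGroup p S) (hF : F.IsSaturated p) (hp5 : 5 ≤ p) (hm : m = 2)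
    {w : Ω} {j₀ k₀ : ℤ} (hw : D.R w 1 j₀ k₀) (hk₀ : (p : ℤ) ∣ k₀) (hwE : w ∈ E) (hwp : w ^ p = 1)
    (hform : ∀ q ∈ E, ∃ a b : ℤ, q = w ^ a * D.t ^ b) (hyE : D.y ∉ E) : ¬ F.IsEssential p E := by
  intro hE
  have hES : E ≤ S := hE.1.1
  haveI : Finite E := finite_of_le hES
  have htE : D.t ∈ E := center_le_essential hE D.t_mem fun s hs => (D.commute_t hs).eq
  have hζt : D.ζ = D.t := by rw [D.ζ_eq, show p ^ (m - 2) = 1 by rw [hm]; rfl, pow_one]
  have htp : D.t ^ p = 1 := hζt ▸ D.ζ_pow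
  have ht1 : D.t ≠ 1 := hζt ▸ D.ζ_ne_one
  have hwS := R.mem D hw
  have hwt : Commute w D.t := (D.commute_t hwS).symm
  -- `q` lies in `⟨t⟩` iff its exponent of `w` vanishes
  have hRq : ∀ a b : ℤ, ∃ j k : ℤ, D.R (w ^ a * D.t ^ b) a j k ∧ (p : ℤ) ∣ k := by
    intro a b
    obtain ⟨j', hj'⟩ := D.R_zpow hw a
    have h1 := D.R_mul hj' (D.R_t b)
    simp only [mul_one, add_zero, mul_zero, sub_zero] at h1
    exact ⟨_, _, h1, hk₀.mul_left a⟩
  have hline : ∀ a b : ℤ, w ^ a * D.t ^ b ∈ zpowers D.t ↔ (p : ℤ) ∣ a := by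
    intro a b
    constructor
    · intro h
      obtain ⟨l, hl⟩ := mem_zpowers_iff.1 h
      obtain ⟨j, k, hq, -⟩ := hRq a b
      have := (D.R_unique (hl ▸ D.R_t l) hq).1
      rwa [sub_zero] at this
    · intro h
      rw [zpow_eq_of_dvd hwp (j := 0) (by simpa using h), zpow_zero, one_mul]
      exact ⟨b, rfl⟩
  letI : CommGroup E :=
    { (inferInstance : Group E) with
      mul_comm := fun q r => Subtype.ext (by
        obtain ⟨a, b, hq⟩ := hform q q.2
        obtain ⟨a', b', hr⟩ := hform r r.2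
        simp only [Subgroup.coe_mul, hq, hr]
        exact ((((Commute.zpow_zpow_self w a a').mul_right (hwt.zpow_zpow a b'))).mul_left
          ((hwt.symm.zpow_zpow b a').mul_right (Commute.zpow_zpow_self D.t b b'))).eq) }
  set t' : E := ⟨D.t, htE⟩ with ht'
  set w' : E := ⟨w, hwE⟩ with hw''
  have hzt : ∀ q : E, q ∈ zpowers t' ↔ (q : Ω) ∈ zpowers D.t := fun q => by
    simp only [mem_zpowers_iff, Subtype.ext_iff, SubgroupClass.coe_zpow, ht']
  -- some automorphism moves `⟨t⟩`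
  obtain ⟨α, hα, hmove⟩ : ∃ α ∈ F.autGroup E, α t' ∉ zpowers t' := by
    by_contra! h
    let C : ℕ → Subgroup E := fun i => if i = 0 then ⊥ else if i = 1 then zpowers t' else ⊤
    refine no_series_aut hE hS C 2 rfl rfl (fun i hi => ?_) (fun i hi a ha x hx => ?_) (fun i hi => ?_)
    · interval_cases i
      · exact bot_le
      · exact le_top
    · interval_cases i
      · rw [show C 0 = ⊥ from rfl, mem_bot] at hx ⊢; rw [hx, map_one]
      · rw [show C 1 = zpowers t' from rfl] at hx ⊢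
        obtain ⟨l, rfl⟩ := mem_zpowers_iff.1 hx
        rw [map_zpow]
        exact zpow_mem (h a ha) l
      · trivial
    · interval_cases i
      · show (⊥ : Subgroup E).relIndex (zpowers t') ≤ p
        rw [relIndex_bot_left, Nat.card_zpowers]
        exact Nat.le_of_dvd hp.out.pos (orderOf_dvd_of_pow_eq_one (Subtype.ext (by simpa using htp)))
      · show (zpowers t').relIndex ⊤ ≤ p
        refine relIndex_le_of_reps w' hp.out.pos fun q _ => ?_
        obtain ⟨a, b, hq⟩ := hform q q.2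
        obtain ⟨n, hn, hd⟩ := exists_nat_mod hp.out.pos a
        refine ⟨n, hn, (hzt _).2 ?_⟩
        simp only [Subgroup.coe_mul, Subgroup.coe_inv, SubgroupClass.coe_pow, hq, hw'']
        rw [← mul_assoc, ← zpow_natCast w n, ← zpow_neg, ← zpow_add]
        refine (hline _ _).2 ?_
        rwa [neg_add_eq_sub]
  -- conjugation by `y`
  have hyN : D.y ∈ S ⊓ Subgroup.normalizer (E : Set Ω) := by
    refine ⟨D.y_mem, mem_normalizer_of_forall fun q hq => ?_⟩
    obtain ⟨a, b, rfl⟩ := hform q hq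
    obtain ⟨j, k, hR, -⟩ := hRq a b
    have h1 := D.conj_of_y hR 1
    rw [zpow_one] at h1
    rw [h1, hζt]
    exact mul_mem (zpow_mem htE _) hq
  let u : F.autGroup E := ⟨conjAut S E ⟨D.y, hyN⟩, autInducedBy_le hES (conjAut_range S E ▸ ⟨_, rfl⟩)⟩
  have hu0 : ∀ q : E, ((((u : MulAut E)) q : E) : Ω) = D.y * q * D.y⁻¹ := fun _ => rfl
  let ρ := (F.autGroup E).subtype
  have hcoord : ∀ q : E, ∃ a b : ℤ, (q : Ω) = w ^ a * D.t ^ b := fun q => hform q q.2
  have hu : ∀ q, ρ u q / q ∈ zpowers t' := by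
    intro q
    obtain ⟨a, b, hq⟩ := hcoord q
    obtain ⟨j, k, hR, -⟩ := hRq a b
    rw [hzt, Subgroup.coe_div]
    show D.y * q * D.y⁻¹ / q ∈ _
    have h1 := D.conj_of_y (n := 1) (hq ▸ hR : D.R (q : Ω) a j k)
    rw [zpow_one] at h1
    rw [h1, mul_div_cancel_right, hζt]
    exact ⟨_, rfl⟩
  have hu1 : ∀ q, q ∉ zpowers t' → ρ u q ≠ q := by
    intro q hq h
    obtain ⟨a, b, hq'⟩ := hcoord q
    obtain ⟨j, k, hR, -⟩ := hRq a b
    have h1 := D.conj_of_y (n := 1) (hq' ▸ hR : D.R (q : Ω) a j k)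
    rw [zpow_one] at h1
    have h2 : D.y * q * D.y⁻¹ = q := congrArg Subtype.val h
    rw [h1, mul_eq_right] at h2
    have h3 := dvd_of_zpow_eq D.ζ_pow D.ζ_ne_one (h2.trans (zpow_zero _).symm)
    rw [sub_zero, mul_one] at h3
    refine hq ((hzt q).2 (hq' ▸ (hline a b).2 ?_))
    exact ((Nat.prime_iff_prime_int.1 hp.out).dvd_or_dvd h3).resolve_left
      fun h => D.hs (by exact_mod_cast h)
  have hexp : ∀ q : E, q ^ p = 1 := fun q => by
    obtain ⟨a, b, hq⟩ := hcoord q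
    refine Subtype.ext ?_
    rw [SubgroupClass.coe_pow, hq, (hwt.zpow_zpow a b).mul_pow]
    simp only [← zpow_natCast, ← zpow_mul]
    rw [zpow_eq_of_dvd hwp (j := 0) (by simp), zpow_eq_of_dvd htp (j := 0) (by simp)]
    simp
  have huy : ρ u t' = t' := Subtype.ext (by
    show D.y * D.t * D.y⁻¹ = D.t
    rw [← (D.commute_t D.y_mem).eq, mul_inv_cancel_right])
  have ht'1 : t' ≠ 1 := fun h => ht1 (congrArg Subtype.val h)
  obtain ⟨T, v, h, hv, hTt, hTv, hh⟩ := exists_torus ρ (by omega) hexp ht'1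
    (fun v hv q => by
      obtain ⟨av, bv, hv'⟩ := hcoord v
      obtain ⟨a, b, hq⟩ := hcoord q
      have hav : ¬ (p : ℤ) ∣ av := fun h => hv ((hzt v).2 (hv' ▸ (hline av bv).2 h))
      obtain ⟨r, hr⟩ := exists_inverse hav
      refine ⟨r * a, b - bv * (r * a), Subtype.ext ?_⟩
      rw [Subgroup.coe_mul, SubgroupClass.coe_zpow, SubgroupClass.coe_zpow, hq, hv',
        (hwt.zpow_zpow av bv).mul_zpow, ← zpow_mul, ← zpow_mul, mul_assoc, ← zpow_add]
      congr 1
      · refine zpow_eq_of_dvd hwp ?_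
        obtain ⟨u, hu⟩ := hr
        exact ⟨-(a * u), by linear_combination (-a) * hu⟩
      · congr 1
        ring)
    huy hu hu1 (α := ⟨α, hα⟩) hmove
  obtain ⟨iv, bv, hv'⟩ := hcoord v
  obtain ⟨jv, kv, hRv, hkv⟩ := hRq iv bv
  rw [← hv'] at hRv
  have hiv : ¬ (p : ℤ) ∣ iv := fun h => hv ((hzt v).2 (hv' ▸ (hline iv bv).2 h))
  set f := autFun (T : MulAut E) with hf0
  have hfm : IsMap F E f := isMap_of_mem_autGroup hES T.2
  have hft : f D.t = D.t ^ (2 : ℤ) := by
    rw [hf0, autFun_of_mem _ htE]; exact (congrArg Subtype.val hTt).trans (SubgroupClass.coe_zpow _ _)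
  have hfv : f v = (v : Ω) ^ h := by
    rw [hf0, autFun_apply]; exact (congrArg Subtype.val hTv).trans (SubgroupClass.coe_zpow _ _)
  have hfz : ∀ {q : Ω} (n : ℤ), q ∈ E → f (q ^ n) = f q ^ n := fun {q} n hq =>
    map_zpow hfm.hom ⟨q, hq⟩ n
  -- the extension to the normalizer
  obtain ⟨g, hg, hge⟩ := exists_extension hS hF hfm
    (by rw [hf0, autFun_img]; exact fullyNormalized_fullyCentralized hS hF hE.2.1)
  have hEform : ∀ q ∈ E, ∃ a b : ℤ, q = (v : Ω) ^ a * D.t ^ b := by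
    intro q hq
    obtain ⟨a, b, rfl⟩ := hform q hq
    obtain ⟨r, hr⟩ := exists_inverse hiv
    refine ⟨r * a, b - bv * (r * a), ?_⟩
    rw [hv', (hwt.zpow_zpow iv bv).mul_zpow, ← zpow_mul, ← zpow_mul, mul_assoc, ← zpow_add]
    congr 1
    · refine zpow_eq_of_dvd hwp ?_
      obtain ⟨u, hu⟩ := hr
      exact ⟨-(a * u), by linear_combination (-a) * hu⟩
    · congr 1
      ring
  have hyn : D.y ∈ nSub S E f := by
    refine ⟨D.y_mem, hyN.2, D.y ^ (4 : ℤ), zpow_mem D.y_mem _, fun q hq => ?_⟩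
    obtain ⟨a, b, rfl⟩ := hEform q hq
    obtain ⟨j', hj'⟩ := D.R_zpow hRv a
    have hR1 : D.R ((v : Ω) ^ a * D.t ^ b) (a * iv + 0) _ _ := D.R_mul hj' (D.R_t b)
    obtain ⟨j'', hj''⟩ := D.R_zpow hRv (h * a)
    have hR2 : D.R ((v : Ω) ^ (h * a) * D.t ^ (2 * b)) (h * a * iv + 0) _ _ :=
      D.R_mul hj'' (D.R_t (2 * b))
    have hm1 : (v : Ω) ^ a * D.t ^ b ∈ E := mul_mem (zpow_mem v.2 _) (zpow_mem htE _)
    have hfq : f ((v : Ω) ^ a * D.t ^ b) = (v : Ω) ^ (h * a) * D.t ^ (2 * b) := by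
      rw [hfm.map_mul (zpow_mem v.2 _) (zpow_mem htE _), hfz _ v.2, hfz _ htE, hft, hfv, ← zpow_mul,
        ← zpow_mul]
    have h1 := D.conj_of_y hR1 1
    rw [zpow_one] at h1
    rw [h1, hfq, D.conj_of_y hR2, hfm.map_mul (hζt ▸ zpow_mem htE _) hm1, hfq, hζt, hfz _ htE, hft,
      ← zpow_mul]
    congr 1
    refine zpow_eq_of_dvd htp ?_
    obtain ⟨r, hr⟩ := hh
    exact ⟨-(2 * (D.s : ℤ) * iv * a * r), by linear_combination (-(2 * (D.s : ℤ) * iv * a)) * hr⟩
  have hNM : Cfsg.FusionSystem.normalizerIn S E ≤ D.M 0 := by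
    intro x hx
    obtain ⟨i, j, k, hxR⟩ := D.exists_coords hx.1
    have hconj : x * w * x⁻¹ ∈ E := (Subgroup.mem_normalizer_iff.1 hx.2 w).1 hwE
    obtain ⟨a, b, hab⟩ := hform _ hconj
    obtain ⟨j', hj'⟩ := D.R_zpow hw a
    have h2 := D.R_unique (hab ▸ D.R_mul hj' (D.R_t b)) (D.R_mul (D.R_mul hxR hw) (D.R_inv hxR))
    obtain ⟨ha, hj, -⟩ := h2
    refine ⟨i, j, k, hxR, ?_⟩
    rw [zero_mul, sub_zero]
    -- `w ^ a t ^ b` with `a ≡ 1` forces `w` and its conjugate to agree modulo `t`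
    have h3 : x * w * x⁻¹ * w⁻¹ ∈ zpowers D.t := by
      rw [hab, mul_assoc, (((D.commute_t (inv_mem hwS)).zpow_left b)).eq, ← mul_assoc,
        ← zpow_neg_one w, ← zpow_add]
      refine (hline _ _).2 ?_
      obtain ⟨r, hr⟩ := ha
      exact ⟨-r, by linear_combination (-1 : ℤ) * hr⟩
    obtain ⟨l, hl⟩ := mem_zpowers_iff.1 h3
    have h4 := D.commutator_coord hxR hw (u := D.t ^ l) (D.R_t l) (by rw [hl]; group)
    obtain ⟨r, hr⟩ := h4
    obtain ⟨r', hr'⟩ := hk₀
    exact ⟨i * r' - r, by linear_combination i * hr' - hr⟩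
  have hMn : D.M 0 ≤ nSub S E f := by
    rintro x ⟨i, j, k, hxR, hk⟩
    rw [zero_mul, sub_zero] at hk
    obtain ⟨j', hj'⟩ := D.R_zpow hw i
    obtain ⟨l, hl⟩ := D.R_reduce (D.R_mul (D.R_inv hj') hxR) (by simp) (by
      rw [neg_add_eq_sub]; exact dvd_sub hk (hk₀.mul_left i))
    have hx : x = w ^ i * (D.t ^ l * D.y ^ (-j' - i * 1 * (i * k₀) + j - -(i * 1) * k)) := by
      rw [← hl, mul_inv_cancel_left]
    rw [hx]
    exact mul_mem (le_nSub hfm (zpow_mem hwE i))
      (mul_mem (le_nSub hfm (zpow_mem htE l)) (zpow_mem hyn _))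
  have hgM := hg.restrict hMn
  have himg : img g (D.M 0) = D.M 0 := by
    have hEM : E ≤ D.M 0 := fun q hq => by
      obtain ⟨a, b, rfl⟩ := hform q hq
      obtain ⟨j, k, hR, hk⟩ := hRq a b
      exact ⟨a, j, k, hR, by simpa using hk⟩
    haveI : Finite (D.M 0) := finite_of_le (D.M_le 0)
    refine eq_of_le_card (img_le fun x hx => hNM ⟨hgM.mem hx, ?_⟩) (le_of_eq hgM.card_img.symm)
    have h1 := hgM.mem_normalizer_img hEM hx (hMn hx).2.1
    rwa [img_congr hge, hf0, autFun_img] at h1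
  obtain ⟨β, hβ, hβe⟩ := hgM.exists_aut himg
  obtain ⟨iy, by', ky, hRy, hiy, hky⟩ := D.not_moving hS hF hp5 hβ
  rw [hβe _ (D.B_le_M 0 D.y_mem_B)] at hRy
  obtain ⟨ly, hly⟩ := D.R_reduce hRy hiy hky
  have hRy' : D.R (autFun β D.y) 0 by' 0 := by
    rw [hβe _ (D.B_le_M 0 D.y_mem_B), hly]; exact ⟨ly, by simp⟩
  have hvM : (v : Ω) ∈ D.M 0 := ⟨_, _, _, hRv, by simpa using hkv⟩
  have hgv : g v = (v : Ω) ^ h := (hge _ v.2).trans hfv
  obtain ⟨jh, hjh⟩ := D.R_zpow hRv h
  have hRv' : D.R (autFun β v) (h * iv) jh (h * kv) := by rw [hβe _ hvM, hgv]; exact hjh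
  -- `b ≡ 4`
  have hb : (p : ℤ) ∣ h * by' - 2 := by
    have hyM := D.B_le_M 0 D.y_mem_B
    have h1 := hgM.map_conj hyM hvM
    have h2 := D.conj_of_y hRv 1
    rw [zpow_one] at h2
    have htM := D.B_le_M 0 D.t_mem_B
    rw [h2, hζt, hgM.map_mul (zpow_mem htM _) hvM, hgv, hly,
      show g (D.t ^ ((D.s : ℤ) * iv * 1)) = f (D.t ^ ((D.s : ℤ) * iv * 1)) from hge _ (zpow_mem htE _),
      hfz _ htE, hft, ← zpow_mul] at h1
    rw [show D.t ^ ly * D.y ^ by' * (v : Ω) ^ h * (D.t ^ ly * D.y ^ by')⁻¹ =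
        D.t ^ ly * (D.y ^ by' * (v : Ω) ^ h * (D.y ^ by')⁻¹) * (D.t ^ ly)⁻¹ by group,
      D.conj_of_y hjh, hζt, ((D.commute_t (mul_mem (zpow_mem D.t_mem _)
        (zpow_mem (D.M_le 0 hvM) h))).zpow_left ly).eq, mul_inv_cancel_right, mul_left_inj] at h1
    have h3 := dvd_of_zpow_eq htp ht1 h1
    refine ((Nat.prime_iff_prime_int.1 hp.out).dvd_or_dvd (b := h * by' - 2)
      (a := (D.s : ℤ) * iv) ?_).resolve_left fun h => ?_
    · obtain ⟨r, hr⟩ := h3
      exact ⟨-r, by linear_combination (-1 : ℤ) * hr⟩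
    · rcases (Nat.prime_iff_prime_int.1 hp.out).dvd_or_dvd h with h | h
      · exact D.hs (by exact_mod_cast h)
      · exact hiv h
  obtain ⟨r, hr⟩ := hh
  obtain ⟨r', hr'⟩ := hb
  have h3 : (p : ℤ) ∣ 3 := by
    rcases D.weights hS hF hp5 hβ hRy' hvM hRv hiv hRv' with ⟨r'', h4⟩ | ⟨r'', h4⟩
    · exact ⟨r'' - 2 * r' + r * by', by linear_combination h4 + by' * hr - 2 * hr'⟩
    · exact ⟨-4 * r'' + r * (2 * h + 1), by linear_combination (2 * h + 1) * hr - 4 * h4⟩
  have := Int.le_of_dvd (by norm_num) h3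
  omega

include D in
/-- A group of type `G(p, r; ε)` has no essential subgroup. -/
theorem not_essential (hS : IsPGroup p S) (hF : F.IsSaturated p) (hp5 : 5 ≤ p) :
    ¬ F.IsEssential p E := by
  intro hE
  have hES : E ≤ S := hE.1.1
  haveI : Finite E := finite_of_le hES
  have hlt : E < S := Alperin.essential_lt hS hF hE
  have hcard : Nat.card E ≤ p ^ (m + 1) := by
    obtain ⟨e, he⟩ := IsPGroup.iff_card.1 (hS.to_le hES)
    have h1 := card_lt_card hlt
    rw [he, D.hcard, Nat.pow_lt_pow_iff_right hp.out.one_lt] at h1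
    rw [he]
    exact Nat.pow_le_pow_right hp.out.pos (by omega)
  have htE : D.t ∈ E := center_le_essential hE D.t_mem fun s hs => (D.commute_t hs).eq
  have hpr := Nat.prime_iff_prime_int.1 hp.out
  have hcentr : ∀ g ∈ S, (∀ q ∈ E, g * q = q * g) → g ∈ E := fun g hg h =>
    centric_centralizerIn_le hE.1 ⟨hg, fun q hq => (h q hq).symm⟩
  have hBE : D.y ∈ E → ∀ g, ∀ i j k : ℤ, D.R g i j k → (p : ℤ) ∣ i → (p : ℤ) ∣ k → g ∈ E := by
    intro hy g i j k hg hi hk
    obtain ⟨l, rfl⟩ := D.R_reduce hg hi hk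
    exact mul_mem (zpow_mem htE l) (zpow_mem hy j)
  by_cases hex : ∃ g ∈ E, ∀ i j k : ℤ, D.R g i j k → ¬ (p : ℤ) ∣ i
  swap
  · -- inside the abelian maximal subgroup
    push Not at hex
    have hyz : Commute D.y D.z := D.hyz
    have hEA : ∀ q ∈ E, ∃ a b : ℤ, q = D.y ^ a * D.z ^ b := by
      intro q hq
      obtain ⟨i, j, k, ⟨l, hl⟩, hi⟩ := hex q hq
      refine ⟨j, (p : ℤ) * l + k, ?_⟩
      rw [hl, zpow_eq_of_dvd D.hx (j := 0) (by simpa using hi), zpow_zero, mul_one,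
        ((D.commute_t (zpow_mem D.y_mem j)).zpow_left l).eq, mul_assoc, zpow_add, zpow_mul,
        zpow_natCast]
      rfl
    have hzE : D.z ∈ E := hcentr _ D.z_mem fun q hq => by
      obtain ⟨a, b, rfl⟩ := hEA q hq
      exact ((hyz.symm.zpow_right a).mul_right (Commute.self_zpow D.z b)).eq
    refine abelian_not_essential hS (fun a ha b hb => ?_) hzE ?_ ?_ hE
    · obtain ⟨a₁, a₂, rfl⟩ := hEA a ha
      obtain ⟨b₁, b₂, rfl⟩ := hEA b hb
      exact ((((Commute.zpow_zpow_self D.y a₁ b₁).mul_right (hyz.zpow_zpow a₁ b₂))).mul_left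
        ((hyz.symm.zpow_zpow a₂ b₁).mul_right (Commute.zpow_zpow_self D.z a₂ b₂))).eq
    · rw [D.orderOf_z]; exact pow_dvd_pow p D.hm
    · rw [D.orderOf_z, ← pow_succ]; exact hcard
  obtain ⟨g, hgE, hgi⟩ := hex
  obtain ⟨ig, jg, kg, hgR⟩ := D.exists_coords (hES hgE)
  obtain ⟨r, hr⟩ := exists_inverse (hgi _ _ _ hgR)
  obtain ⟨jw, hwR'⟩ := D.R_zpow hgR r
  set w := g ^ r with hwdef
  have hwE : w ∈ E := zpow_mem hgE r
  set c := r * kg with hc
  by_cases hyE : D.y ∈ E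
  · -- a maximal subgroup `M`
    have hwi : (p : ℤ) ∣ r * ig - 1 := by rwa [mul_comm r]
    suffices hEM : E = D.M c by exact D.not_essential_M hS hF hp5 c (hEM ▸ hE)
    refine le_antisymm (fun q hq => ?_) fun q hq => ?_
    · obtain ⟨i, j, k, hqR⟩ := D.exists_coords (hES hq)
      refine ⟨i, j, k, hqR, ?_⟩
      by_contra hk
      obtain ⟨j', hj'⟩ := D.R_zpow hwR' i
      have hq' : (w ^ i)⁻¹ * q ∈ E := mul_mem (inv_mem (zpow_mem hwE i)) hq
      have hq'R := D.R_mul (D.R_inv hj') hqR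
      have hi' : (p : ℤ) ∣ -(i * (r * ig)) + i := by
        obtain ⟨u, hu⟩ := hwi
        exact ⟨-(i * u), by linear_combination (-i) * hu⟩
      have hk' : ¬ (p : ℤ) ∣ -(i * c) + k := fun h => hk (by rwa [mul_comm c, ← neg_add_eq_sub])
      obtain ⟨v, hv⟩ := exists_inverse hk'
      obtain ⟨j'', hzR⟩ := D.R_zpow hq'R v
      have hzE : D.z ∈ E := by
        have h1 : ((w ^ i)⁻¹ * q) ^ v ∈ E := zpow_mem hq' v
        obtain ⟨u, hu⟩ := hv
        have h2 := D.R_mul (D.R_inv hzR) D.R_z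
        have h3 := hBE hyE _ _ _ _ h2
          (by simpa using hi'.mul_left v) ⟨-u, by linear_combination (-1 : ℤ) * hu⟩
        simpa using mul_mem h1 h3
      have hxE : D.x ∈ E := by
        have h2 := D.R_mul (D.R_inv hwR') D.R_x
        have hcz : D.z ^ c ∈ E := zpow_mem hzE c
        have h3 := D.R_mul h2 (D.R_zpow D.R_z c).choose_spec
        have h4 := hBE hyE _ _ _ _ h3 (by
          obtain ⟨u, hu⟩ := hwi
          exact ⟨-u, by linear_combination (-1 : ℤ) * hu⟩) (by simp [hc])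
        have h5 := mul_mem (mul_mem hwE h4) (inv_mem hcz)
        simpa [mul_assoc] using h5
      refine hlt.not_ge ((le_of_eq D.hgen).trans ((closure_le _).2 ?_))
      rintro a (rfl | rfl | rfl)
      exacts [hxE, hyE, hzE]
    · obtain ⟨i, j, k, hqR, hk⟩ := hq
      obtain ⟨j', hj'⟩ := D.R_zpow hwR' i
      have h3 := hBE hyE _ _ _ _ (D.R_mul (D.R_inv hj') hqR) (by
        obtain ⟨u, hu⟩ := hwi
        exact ⟨-(i * u), by linear_combination (-i) * hu⟩) (by
        obtain ⟨u, hu⟩ := hk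
        exact ⟨u, by linear_combination hu⟩)
      simpa using mul_mem (zpow_mem hwE i) h3
  · -- `E = ⟨t, w⟩`
    have hwi : (p : ℤ) ∣ r * ig - 1 := by rwa [mul_comm r]
    have hnoy : ∀ q ∈ E, ∀ i j k : ℤ, D.R q i j k → (p : ℤ) ∣ i → (p : ℤ) ∣ k → (p : ℤ) ∣ j := by
      intro q hq i j k hqR hi hk
      by_contra hj
      obtain ⟨l, rfl⟩ := D.R_reduce hqR hi hk
      obtain ⟨v, hv⟩ := exists_inverse hj
      have h1 : D.y ^ j ∈ E := by simpa using mul_mem (zpow_mem htE (-l)) hq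
      have h2 := zpow_mem h1 v
      rw [← zpow_mul, zpow_eq_of_dvd D.hy (j := 1) hv, zpow_one] at h2
      exact hyE h2
    have hform : ∀ q ∈ E, ∃ a b : ℤ, q = w ^ a * D.t ^ b := by
      intro q hq
      obtain ⟨i, j, k, hqR⟩ := D.exists_coords (hES hq)
      -- the commutator of `w` and `q`
      have hu : w * q * w⁻¹ * q⁻¹ ∈ E :=
        mul_mem (mul_mem (mul_mem hwE hq) (inv_mem hwE)) (inv_mem hq)
      have huR := D.R_mul (D.R_mul (D.R_mul hwR' hqR) (D.R_inv hwR')) (D.R_inv hqR)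
      have he := hnoy _ hu _ _ _ huR (by simp) (by simp)
      obtain ⟨j', hj'⟩ := D.R_zpow hwR' i
      have hq' : (w ^ i)⁻¹ * q ∈ E := mul_mem (inv_mem (zpow_mem hwE i)) hq
      have hq'R := D.R_mul (D.R_inv hj') hqR
      have hi' : (p : ℤ) ∣ -(i * (r * ig)) + i := by
        obtain ⟨u, hu⟩ := hwi
        exact ⟨-(i * u), by linear_combination (-i) * hu⟩
      have hk' : (p : ℤ) ∣ -(i * c) + k := by
        obtain ⟨u, hu⟩ := he
        obtain ⟨u', hu'⟩ := hwi
        exact ⟨-u - k * u', by linear_combination (-1 : ℤ) * hu - k * hu'⟩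
      obtain ⟨l, hl⟩ := D.R_reduce hq'R hi' hk'
      refine ⟨i, l, ?_⟩
      rw [zpow_eq_of_dvd D.hy (j := 0) (by simpa using hnoy _ hq' _ _ _ hq'R hi' hk'), zpow_zero,
        mul_one] at hl
      rw [← hl, mul_inv_cancel_left]
    obtain ⟨l, hl, -⟩ := D.pow_coord hp5 hwR'
    have hwS := R.mem D hwR'
    have hwt : Commute w D.t := (D.commute_t hwS).symm
    have habE : ∀ a ∈ E, ∀ b ∈ E, a * b = b * a := fun a ha b hb => by
      obtain ⟨a₁, a₂, rfl⟩ := hform a ha
      obtain ⟨b₁, b₂, rfl⟩ := hform b hb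
      exact ((((Commute.zpow_zpow_self w a₁ b₁).mul_right (hwt.zpow_zpow a₁ b₂))).mul_left
        ((hwt.symm.zpow_zpow a₂ b₁).mul_right (Commute.zpow_zpow_self D.t a₂ b₂))).eq
    have hcardE : Nat.card E ≤ orderOf D.t * p := by
      haveI : Finite (zpowers D.t) := finite_of_le (zpowers_le.2 D.t_mem)
      have h1 : (zpowers D.t).relIndex E ≤ p := relIndex_le_of_reps w hp.out.pos fun q hq => by
        obtain ⟨a, b, rfl⟩ := hform q hq
        obtain ⟨n, hn, ⟨u, hu⟩⟩ := exists_nat_mod hp.out.pos a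
        refine ⟨n, hn, ?_⟩
        rw [← mul_assoc, ← zpow_natCast w n, ← zpow_neg, ← zpow_add,
          show -(n : ℤ) + a = (p : ℤ) * u by linarith, zpow_mul, zpow_natCast, hl, ← zpow_mul,
          ← zpow_add]
        exact ⟨_, rfl⟩
      rw [← Subgroup.relIndex_bot_left E, ← Subgroup.relIndex_mul_relIndex ⊥ (zpowers D.t) E bot_le
        (zpowers_le.2 htE), relIndex_bot_left, Nat.card_zpowers]
      exact Nat.mul_le_mul_left _ h1
    by_cases hm : m = 2
    · by_cases hwp : w ^ p = 1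
      · -- pearl
        have hk : (p : ℤ) ∣ c := by
          rw [hl] at hwp
          have h1 := orderOf_dvd_iff_zpow_eq_one.2 hwp
          rw [D.orderOf_t, show p ^ (m - 1) = p by rw [hm]; exact pow_one p] at h1
          exact (dvd_add_right (dvd_mul_right (p : ℤ) l)).1 h1
        obtain ⟨u, hu⟩ := hwi
        refine D.not_essential_pearl hS hF hp5 hm (w := w * D.y ^ (0 : ℤ)) (j₀ := jw) (k₀ := c) ?_ hk
          (by simpa using hwE) (by simpa using hwp) (fun q hq => by simpa using hform q hq) hyE hE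
        rw [zpow_zero, mul_one]
        obtain ⟨l', hl'⟩ := hwR'
        refine ⟨l', ?_⟩
        rw [hl', zpow_eq_of_dvd D.hx (i := r * ig) (j := 1) ⟨u, hu⟩]
      · -- cyclic
        refine abelian_not_essential hS habE hwE ?_ ?_ hE
        · have hw2 : orderOf w ∣ p ^ 2 := orderOf_dvd_of_pow_eq_one (by
            rw [pow_two, pow_mul, hl, ← zpow_natCast, ← zpow_mul, mul_comm, zpow_mul, zpow_natCast,
              show D.t ^ p = 1 by
                have := D.t_pow; rwa [show p ^ (m - 1) = p by rw [hm]; exact pow_one p] at this,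
              one_zpow])
          obtain ⟨e, he, hoe⟩ := (Nat.dvd_prime_pow hp.out).1 hw2
          rcases he.lt_or_eq with he | he
          · exfalso
            exact hwp (orderOf_dvd_iff_pow_eq_one.1 (hoe ▸ pow_dvd_pow p (show e ≤ 1 by omega) |>.trans
              (pow_one p).dvd))
          · rw [hoe, he]
        · refine hcardE.trans (Nat.mul_le_mul_right _ (Nat.le_of_dvd ?_ ?_))
          · exact orderOf_pos_iff.2 (isOfFinOrder_iff_pow_eq_one.2 ⟨Nat.card E, Nat.card_pos,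
              congrArg Subtype.val (pow_card_eq_one' (x := (⟨w, hwE⟩ : E)))⟩)
          · rw [D.orderOf_t, show p ^ (m - 1) = p by rw [hm]; exact pow_one p]
            obtain ⟨e, he, hoe⟩ := (Nat.dvd_prime_pow hp.out).1 (show orderOf w ∣ p ^ Nat.card E from
              orderOf_dvd_of_pow_eq_one (by
                obtain ⟨e', he'⟩ := hS.to_le hES ⟨w, hwE⟩
                have h1 : orderOf (⟨w, hwE⟩ : E) ∣ Nat.card E := orderOf_dvd_natCard _
                obtain ⟨e₂, he₂⟩ := IsPGroup.iff_card.1 (hS.to_le hES)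
                rw [he₂] at h1
                have h2 : e₂ ≤ p ^ e₂ := (Nat.lt_pow_self hp.out.one_lt).le
                refine orderOf_dvd_iff_pow_eq_one.1 ?_
                rw [← Subgroup.orderOf_mk _ hwE, he₂]
                exact h1.trans (pow_dvd_pow p h2)))
            rcases Nat.eq_zero_or_pos e with rfl | he0
            · rw [pow_zero, orderOf_eq_one_iff] at hoe
              exact absurd (by rw [hoe, one_pow]) hwp
            · rw [hoe]; exact dvd_pow_self p he0.ne'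
    · have := D.hm
      refine abelian_not_essential hS habE htE ?_ hcardE hE
      rw [D.orderOf_t]; exact pow_dvd_pow p (by omega)

end Data

/-- The groups `p^{1+2} ∘ C` have no essential subgroup. -/
theorem not_essential_C (hS : IsPGroup p S) (hF : F.IsSaturated p) {z : Ω} (hz : z ∈ S)
    (hzc : ∀ s ∈ S, z * s = s * z) (hz2 : p ^ 2 ∣ orderOf z)
    (hcard : Nat.card S ≤ orderOf z * p ^ 2) : ¬ F.IsEssential p E := by
  intro hE
  have hES : E ≤ S := hE.1.1
  haveI : Finite E := finite_of_le hES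
  have hzE : z ∈ E := center_le_essential hE hz hzc
  have hlt : E < S := Alperin.essential_lt hS hF hE
  obtain ⟨e, he⟩ := IsPGroup.iff_card.1 (hS.to_le hES)
  obtain ⟨n, hn⟩ := IsPGroup.iff_card.1 hS
  have h1 := card_lt_card hlt
  rw [he, hn, Nat.pow_lt_pow_iff_right hp.out.one_lt] at h1
  have hcE : Nat.card E ≤ orderOf z * p := by
    refine Nat.le_of_mul_le_mul_right ?_ hp.out.pos
    rw [he, mul_assoc, ← sq]
    refine le_trans ?_ hcard
    rw [hn, ← pow_succ]
    exact Nat.pow_le_pow_right hp.out.pos (by omega)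
  -- a centre of index at most `p`
  refine abelian_not_essential hS (fun a ha b hb => ?_) hzE hz2 hcE hE
  set Z := zpowers (⟨z, hzE⟩ : E) with hZ
  have hZc : Z ≤ Subgroup.center E := zpowers_le.2 (Subgroup.mem_center_iff.2 fun q =>
    Subtype.ext (hzc q (hES q.2)).symm)
  haveI : Z.Normal := ⟨fun q hq x => by
    rwa [Subgroup.mem_center_iff.1 (hZc hq) x, mul_inv_cancel_right]⟩
  have hq : Nat.card (E ⧸ Z) ≤ p := by
    have h2 := Subgroup.card_eq_card_quotient_mul_card_subgroup Z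
    rw [Nat.card_zpowers, ← Subgroup.orderOf_coe (⟨z, hzE⟩ : E)] at h2
    have hzpos : 0 < orderOf z := Nat.pos_of_ne_zero fun h0 => by
      rw [h0, zero_mul] at hcE
      exact absurd (Nat.card_pos (α := E)) (by omega)
    refine Nat.le_of_mul_le_mul_right ?_ hzpos
    rw [← h2, mul_comm]
    exact hcE
  have hcyc : IsCyclic (E ⧸ Z) := by
    obtain ⟨k, hk⟩ := IsPGroup.iff_card.1 ((hS.to_le hES).to_quotient Z)
    rcases Nat.eq_zero_or_pos k with rfl | hk0
    · rw [pow_zero] at hk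
      haveI : Subsingleton (E ⧸ Z) := (Nat.card_eq_one_iff_unique.1 hk).1
      exact isCyclic_of_subsingleton
    · refine isCyclic_of_prime_card (p := p) ?_
      have : k ≤ 1 := (Nat.pow_le_pow_iff_right hp.out.one_lt).1 (by rw [pow_one, ← hk]; exact hq)
      rw [hk, show k = 1 by omega, pow_one]
  exact congrArg Subtype.val (commutative_of_cyclic_center_quotient (QuotientGroup.mk' Z)
    (by rw [QuotientGroup.ker_mk']; exact hZc) (⟨a, ha⟩ : E) ⟨b, hb⟩)

end Cfsg.Agent.Fusion.RankTwoResistant
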